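/-
A base of commuting transpositions, words normalising it, and certificates (found by a computer search).
-/
import Mathlib.Tactic.Common

set_option autoImplicit false

namespace CfsgLib.Spor.Fi23Two

/-- The points of the base. -/
def labs : List ℕ := [0, 52, 106, 174, 1611, 190, 5082, 10038, 5024, 6791, 5086, 2942, 8005, 2986, 196, 14202, 6787, 217, 6789, 1780, 1746, 6796, 8001]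

/-- Words carrying the first point to the points of the base. -/
def paths : List (List ℕ) := [
  [],
  [7, 6, 5, 4, 3, 8, 2, 3, 4, 5, 6, 7],
  [9, 7, 6, 5, 4, 3, 8, 1, 2, 3, 4, 5, 6, 7],
  [7, 6, 5, 4, 1, 2, 3, 8, 0, 1, 2, 3, 4, 5, 6, 7],
  [3, 4, 2, 3, 8, 9, 7, 6, 5, 3, 4, 2, 3, 8, 0, 1, 2, 3, 4, 5, 6, 7],
  [9, 7, 6, 5, 4, 2, 3, 8, 0, 1, 2, 3, 4, 5, 6, 7],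
  [2, 3, 4, 0, 1, 2, 3, 8, 9, 8, 7, 6, 5, 3, 4, 2, 3, 8, 0, 1, 2, 3, 4, 5, 6, 7],
  [8, 2, 3, 4, 0, 1, 2, 3, 8, 9, 3, 8, 7, 6, 5, 2, 3, 4, 1, 2, 3, 8, 0, 1, 2, 3, 4, 5, 6, 7],
  [9, 8, 3, 4, 1, 2, 3, 8, 9, 7, 6, 4, 5, 3, 4, 2, 3, 8, 0, 1, 2, 3, 4, 5, 6, 7],
  [8, 3, 4, 1, 2, 3, 8, 9, 3, 8, 7, 6, 5, 2, 3, 4, 1, 2, 3, 8, 0, 1, 2, 3, 4, 5, 6, 7],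
  [8, 2, 3, 4, 1, 2, 3, 8, 9, 8, 7, 6, 5, 3, 4, 2, 3, 8, 0, 1, 2, 3, 4, 5, 6, 7],
  [8, 3, 4, 2, 3, 8, 9, 7, 6, 4, 5, 3, 4, 2, 3, 8, 0, 1, 2, 3, 4, 5, 6, 7],
  [5, 4, 3, 8, 2, 3, 4, 1, 2, 3, 8, 7, 5, 6, 4, 5, 3, 4, 2, 3, 8, 1, 2, 3, 4, 5, 6, 7],
  [3, 4, 1, 2, 3, 8, 9, 8, 7, 6, 5, 3, 4, 2, 3, 8, 0, 1, 2, 3, 4, 5, 6, 7],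
  [8, 9, 7, 6, 5, 4, 3, 8, 0, 1, 2, 3, 4, 5, 6, 7],
  [9, 8, 1, 2, 3, 4, 0, 1, 2, 3, 8, 9, 3, 8, 7, 6, 5, 2, 3, 4, 1, 2, 3, 8, 0, 1, 2, 3, 4, 5, 6, 7],
  [3, 4, 0, 1, 2, 3, 8, 9, 3, 8, 7, 6, 5, 2, 3, 4, 1, 2, 3, 8, 0, 1, 2, 3, 4, 5, 6, 7],
  [8, 9, 7, 6, 5, 4, 2, 3, 8, 1, 2, 3, 4, 5, 6, 7],
  [2, 3, 4, 1, 2, 3, 8, 9, 3, 8, 7, 6, 5, 2, 3, 4, 1, 2, 3, 8, 0, 1, 2, 3, 4, 5, 6, 7],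
  [8, 3, 4, 2, 3, 8, 9, 7, 6, 5, 3, 4, 2, 3, 8, 1, 2, 3, 4, 5, 6, 7],
  [3, 4, 2, 3, 8, 9, 7, 6, 4, 5, 3, 4, 2, 3, 8, 1, 2, 3, 4, 5, 6, 7],
  [9, 8, 3, 4, 2, 3, 8, 9, 3, 8, 7, 6, 5, 2, 3, 4, 1, 2, 3, 8, 0, 1, 2, 3, 4, 5, 6, 7],
  [3, 8, 5, 2, 3, 4, 1, 2, 3, 8, 6, 7, 5, 6, 4, 5, 3, 4, 2, 3, 8, 1, 2, 3, 4, 5, 6, 7]]

/-- The coordinates of the points of the base. -/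
def cols : List ℕ := [1, 2, 4, 8, 16, 32, 64, 128, 256, 512, 1024, 1141, 1183, 1355, 1763, 435, 870, 1740, 493, 986, 1972, 797, 1594]

/-- Words inducing the seven listed generators. -/
def tWords : List (List ℕ) := [
  [4, 3, 8, 9, 4, 1, 2, 3, 8, 6, 7, 5, 6, 4, 5, 2, 3, 4, 0, 1, 2, 3, 8, 9, 4, 5, 3, 4, 1, 2, 3, 8, 0, 1, 2, 3, 4, 5, 6, 7, 10, 7, 6, 5, 4, 3, 2, 1, 0, 8, 3, 2, 1, 4, 3, 5, 4, 9, 8, 3, 2, 1, 0, 4, 3, 2, 5, 4, 6, 5, 7, 6, 8, 3, 2, 1, 4, 9, 8, 3, 4, 10, 8, 3, 4, 2, 3, 8, 9, 7, 6, 5, 3, 4, 2, 3, 8, 0, 1, 2, 3, 4, 5, 6, 7, 10, 7, 6, 5, 4, 3, 2, 1, 0, 8, 3, 2, 4, 3, 5, 6, 7, 9, 8, 3, 2, 4, 3, 8, 9, 7, 6, 5, 4, 3, 8, 0, 1,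 2, 3, 4, 5, 6, 7, 10, 7, 6, 5, 4, 3, 2, 1, 0, 8, 3, 4, 5, 6, 7, 9, 7, 6, 5, 3, 4, 2, 3, 8, 9, 8, 5, 3, 4, 2, 3, 8, 0, 1, 2, 3, 4, 5, 6, 7, 10, 7, 6, 5, 4, 3, 2, 1, 0, 8, 3, 2, 4, 3, 5, 8, 9, 8, 3, 2, 4, 3, 5, 6, 7, 8, 6, 5, 3, 4, 0, 1, 2, 3, 8, 9, 8, 7, 6, 5, 2, 3, 4, 1, 2, 3, 8, 0, 1, 2, 3, 4, 5, 6, 7, 10, 7, 6, 5, 4, 3, 2, 1, 0, 8, 3, 2, 1, 4, 3, 2, 5, 6, 7, 8, 9, 8, 3, 2, 1, 0, 4, 3, 5, 6, 8, 5, 4, 3, 8, 9, 6, 7, 5, 6, 4, 5, 3, 4, 2, 3, 8, 0, 1, 2, 3, 4, 5, 6, 7, 10, 7, 6, 5, 4, 3, 2, 1, 0, 8, 3, 2, 4, 3, 5, 4, 6, 5, 7, 6, 9, 8, 3, 4, 5, 5, 4, 2, 3, 8, 1, 2, 3, 4, 5, 6, 7, 10, 7, 6, 5, 4, 3, 2, 1, 8, 3, 2, 4, 5, 0, 1, 2, 3, 4,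 5, 6, 7, 10, 7, 6, 5, 4, 3, 2, 1, 0, 9, 8, 1, 2, 3, 4, 5, 6, 7, 10, 7, 6, 5, 4, 3, 2, 1, 8, 9, 3, 4, 5, 6, 7, 10, 7, 6, 5, 4, 3, 4, 3, 8, 9, 4, 1, 2, 3, 8, 6, 7, 5, 6, 4, 5, 2, 3, 4, 0, 1, 2, 3, 8, 9, 4, 5, 3, 4, 1, 2, 3, 8, 0, 1, 2, 3, 4, 5, 6, 7, 10, 7, 6, 5, 4, 3, 2, 1, 0, 8, 3, 2, 1, 4, 3, 5, 4, 9, 8, 3, 2, 1, 0, 4, 3, 2, 5, 4, 6, 5, 7, 6, 8, 3, 2, 1, 4, 9, 8, 3, 4, 10, 8, 3, 4, 2, 3, 8, 9, 7, 6, 5, 3, 4, 2, 3, 8, 0, 1, 2, 3, 4, 5, 6, 7, 10, 7, 6, 5, 4, 3, 2, 1, 0, 8, 3, 2, 4, 3, 5, 6, 7, 9, 8, 3, 2, 4, 3, 8, 9, 7, 6, 5, 4, 3, 8, 0, 1, 2, 3, 4, 5, 6, 7, 10, 7, 6, 5, 4, 3, 2, 1, 0, 8, 3, 4, 5, 6, 7, 9, 7, 6, 5, 3, 4, 2, 3, 8,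 9, 8, 5, 3, 4, 2, 3, 8, 0, 1, 2, 3, 4, 5, 6, 7, 10, 7, 6, 5, 4, 3, 2, 1, 0, 8, 3, 2, 4, 3, 5, 8, 9, 8, 3, 2, 4, 3, 5, 6, 7, 8, 6, 5, 3, 4, 0, 1, 2, 3, 8, 9, 8, 7, 6, 5, 2, 3, 4, 1, 2, 3, 8, 0, 1, 2, 3, 4, 5, 6, 7, 10, 7, 6, 5, 4, 3, 2, 1, 0, 8, 3, 2, 1, 4, 3, 2, 5, 6, 7, 8, 9, 8, 3, 2, 1, 0, 4, 3, 5, 6, 8, 5, 4, 3, 8, 9, 6, 7, 5, 6, 4, 5, 3, 4, 2, 3, 8, 0, 1, 2, 3, 4, 5, 6, 7, 10, 7, 6, 5, 4, 3, 2, 1, 0, 8, 3, 2, 4, 3, 5, 4, 6, 5, 7, 6, 9, 8, 3, 4, 5, 5, 4, 2, 3, 8, 1, 2, 3, 4, 5, 6, 7, 10, 7, 6, 5, 4, 3, 2, 1, 8, 3, 2, 4, 5, 0, 1, 2, 3, 4, 5, 6, 7, 10, 7, 6, 5, 4, 3, 2, 1, 0, 9, 8, 1, 2, 3, 4, 5, 6, 7, 10, 7, 6, 5, 4, 3, 2, 1, 8,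 9, 3, 4, 5, 6, 7, 10, 7, 6, 5, 4, 3],
  [7, 6, 4, 5, 3, 4, 2, 3, 8, 9, 8, 5, 2, 3, 4, 1, 2, 3, 8, 0, 1, 2, 3, 4, 5, 6, 7, 10, 7, 6, 5, 4, 3, 2, 1, 0, 8, 3, 2, 1, 4, 3, 2, 5, 8, 9, 8, 3, 2, 4, 3, 5, 4, 6, 7, 3, 8, 1, 2, 3, 4, 5, 6, 7, 10, 7, 6, 5, 4, 3, 2, 1, 8, 3, 7, 6, 5, 4, 3, 8, 9, 5, 3, 4, 2, 3, 8, 1, 2, 3, 4, 5, 6, 7, 10, 7, 6, 5, 4, 3, 2, 1, 8, 3, 2, 4, 3, 5, 9, 8, 3, 4, 5, 6, 7, 7, 6, 5, 4, 3, 8, 0, 1, 2, 3, 4, 5, 6, 7, 10, 7, 6, 5, 4, 3, 2, 1, 0, 8, 3, 4, 5, 6, 7, 10, 8, 9, 8, 3, 4, 2, 3, 8, 0, 1, 2, 3, 4, 5, 6, 7, 10, 7, 6, 5, 4, 3, 2, 1, 0, 8, 3, 2, 4, 3, 8, 9, 8, 9, 7, 6, 5, 4, 3, 8, 1, 2, 3, 4, 5, 6, 7, 10, 7, 6, 5, 4,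 3, 2, 1, 8, 3, 4, 5, 6, 7, 9, 3, 8, 7, 6, 4, 5, 3, 4, 2, 3, 8, 9, 6, 5, 3, 4, 1, 2, 3, 8, 0, 1, 2, 3, 4, 5, 6, 7, 10, 7, 6, 5, 4, 3, 2, 1, 0, 8, 3, 2, 1, 4, 3, 5, 6, 9, 8, 3, 2, 4, 3, 5, 4, 6, 7, 8, 3, 0, 1, 2, 3, 8, 9, 4, 1, 2, 3, 8, 5, 6, 3, 4, 5, 2, 3, 4, 1, 2, 3, 8, 9, 8, 6, 5, 2, 3, 4, 1, 2, 3, 8, 0, 1, 2, 3, 4, 5, 6, 7, 10, 7, 6, 5, 4, 3, 2, 1, 0, 8, 3, 2, 1, 4, 3, 2, 5, 6, 8, 9, 8, 3, 2, 1, 4, 3, 2, 5, 4, 3, 6, 5, 8, 3, 2, 1, 4, 9, 8, 3, 2, 1, 0, 8, 9, 3, 4, 1, 2, 3, 8, 0, 1, 2, 3, 4, 5, 6, 7, 10, 7, 6, 5, 4, 3, 2, 1, 0, 8, 3, 2, 1, 4, 3, 9, 8, 8, 3, 4, 5, 6, 7, 10, 7, 6, 5, 4, 3, 8, 9, 3, 8, 7, 6, 4, 5, 3, 4, 0, 1, 2, 3,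 8, 9, 4, 5, 3, 4, 1, 2, 3, 8, 0, 1, 2, 3, 4, 5, 6, 7, 10, 7, 6, 5, 4, 3, 2, 1, 0, 8, 3, 2, 1, 4, 3, 5, 4, 9, 8, 3, 2, 1, 0, 4, 3, 5, 4, 6, 7, 8, 3, 9, 1, 2, 3, 4, 5, 6, 7, 10, 7, 6, 5, 4, 3, 2, 1, 7, 6, 5, 3, 4, 2, 3, 8, 9, 8, 5, 2, 3, 4, 1, 2, 3, 8, 0, 1, 2, 3, 4, 5, 6, 7, 10, 7, 6, 5, 4, 3, 2, 1, 0, 8, 3, 2, 1, 4, 3, 2, 5, 8, 9, 8, 3, 2, 4, 3, 5, 6, 7, 7, 6, 5, 4, 1, 2, 3, 8, 9, 3, 8, 7, 6, 5, 2, 3, 4, 1, 2, 3, 8, 0, 1, 2, 3, 4, 5, 6, 7, 10, 7, 6, 5, 4, 3, 2, 1, 0, 8, 3, 2, 1, 4, 3, 2, 5, 6, 7, 8, 3, 9, 8, 3, 2, 1, 4, 5, 6, 7, 4, 3, 8, 9, 3, 4, 1, 2, 3, 8, 5, 6, 4, 5, 3, 4, 1, 2, 3, 8, 9, 8, 4, 5, 2, 3, 4, 1, 2, 3, 8, 0, 1, 2,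 3, 4, 5, 6, 7, 10, 7, 6, 5, 4, 3, 2, 1, 0, 8, 3, 2, 1, 4, 3, 2, 5, 4, 8, 9, 8, 3, 2, 1, 4, 3, 5, 4, 6, 5, 8, 3, 2, 1, 4, 3, 9, 8, 3, 4, 8, 9, 7, 6, 5, 4, 1, 2, 3, 8, 0, 1, 2, 3, 4, 5, 6, 7, 10, 7, 6, 5, 4, 3, 2, 1, 0, 8, 3, 2, 1, 4, 5, 6, 7, 9, 8, 8, 9, 3, 8, 1, 2, 3, 4, 5, 6, 7, 10, 7, 6, 5, 4, 3, 2, 1, 8, 3, 9, 8, 4, 3, 8, 9, 8, 7, 6, 5, 3, 4, 2, 3, 8, 0, 1, 2, 3, 4, 5, 6, 7, 10, 7, 6, 5, 4, 3, 2, 1, 0, 8, 3, 2, 4, 3, 5, 6, 7, 8, 9, 8, 3, 4, 2, 3, 4, 1, 2, 3, 8, 0, 1, 2, 3, 4, 5, 6, 7, 10, 7, 6, 5, 4, 3, 2, 1, 0, 8, 3, 2, 1, 4, 3, 2, 9, 3, 8, 2, 3, 4, 5, 6, 7, 10, 7, 6, 5, 4, 3, 2, 8, 3, 9, 9, 8, 7, 6, 5, 2, 3, 4, 1, 2, 3, 8, 9,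 8, 5, 2, 3, 4, 1, 2, 3, 8, 0, 1, 2, 3, 4, 5, 6, 7, 10, 7, 6, 5, 4, 3, 2, 1, 0, 8, 3, 2, 1, 4, 3, 2, 5, 8, 9, 8, 3, 2, 1, 4, 3, 2, 5, 6, 7, 8, 9, 5, 6, 7, 10, 7, 6, 5],
  [9, 7, 6, 5, 4, 3, 8, 6, 5, 2, 3, 4, 1, 2, 3, 8, 9, 6, 5, 3, 4, 1, 2, 3, 8, 0, 1, 2, 3, 4, 5, 6, 7, 10, 7, 6, 5, 4, 3, 2, 1, 0, 8, 3, 2, 1, 4, 3, 5, 6, 9, 8, 3, 2, 1, 4, 3, 2, 5, 6, 8, 3, 4, 5, 6, 7, 9, 8, 9, 1, 2, 3, 8, 4, 5, 3, 4, 2, 3, 8, 9, 5, 4, 1, 2, 3, 8, 0, 1, 2, 3, 4, 5, 6, 7, 10, 7, 6, 5, 4, 3, 2, 1, 0, 8, 3, 2, 1, 4, 5, 9, 8, 3, 2, 4, 3, 5, 4, 8, 3, 2, 1, 9, 8, 8, 5, 3, 4, 2, 3, 8, 6, 7, 5, 6, 4, 5, 3, 4, 2, 3, 8, 1, 2, 3, 4, 5, 6, 7, 10, 7, 6, 5, 4, 3,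 2, 1, 8, 3, 2, 4, 3, 5, 4, 6, 5, 7, 6, 8, 3, 2, 4, 3, 5, 8, 7, 6, 5, 3, 4, 2, 3, 8, 1, 2, 3, 4, 5, 6, 7, 10, 7, 6, 5, 4, 3, 2, 1, 8, 3, 2, 4, 3, 5, 6, 7, 5, 4, 3, 8, 9, 6, 5, 4, 3, 8, 1, 2, 3, 4, 5, 6, 7, 10, 7, 6, 5, 4, 3, 2, 1, 8, 3, 4, 5, 6, 9, 8, 3, 4, 5, 2, 3, 8, 9, 3, 4, 2, 3, 8, 1, 2, 3, 4, 5, 6, 7, 10, 7, 6, 5, 4, 3, 2, 1, 8, 3, 2, 4, 3, 9, 8, 3, 2, 9, 3, 8, 2, 3, 4, 5, 6, 7, 10, 7, 6, 5, 4, 3, 2, 8, 3, 9, 9, 8, 2, 3, 4, 5, 6, 7, 10, 7, 6, 5, 4, 3, 2, 8, 9, 8, 3, 4, 5, 6, 7, 10, 7, 6, 5, 4, 3, 8, 9, 3, 8, 1, 2, 3, 4, 5, 6, 7, 10, 7, 6, 5, 4, 3, 2, 1, 8, 3, 9, 10, 5, 6, 7, 10, 7, 6, 5, 4, 3, 8, 1, 2, 3, 4, 5, 6, 7, 10, 7,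 6, 5, 4, 3, 2, 1, 8, 3, 4, 8, 9, 3, 8, 1, 2, 3, 4, 5, 6, 7, 10, 7, 6, 5, 4, 3, 2, 1, 8, 3, 9, 8, 3, 8, 1, 2, 3, 4, 5, 6, 7, 10, 7, 6, 5, 4, 3, 2, 1, 8, 3, 2, 3, 4, 5, 6, 7, 10, 7, 6, 5, 4, 3, 2, 10, 8, 9, 3, 8, 2, 3, 4, 5, 6, 7, 10, 7, 6, 5, 4, 3, 2, 8, 3, 9, 8, 5, 6, 7, 10, 7, 6, 5, 9, 3, 8, 1, 2, 3, 4, 5, 6, 7, 10, 7, 6, 5, 4, 3, 2, 1, 8, 3, 9, 9, 2, 3, 8, 6, 4, 5, 3, 4, 1, 2, 3, 8, 9, 7, 6, 5, 4, 1, 2, 3, 8, 0, 1, 2, 3, 4, 5, 6, 7, 10, 7, 6, 5, 4, 3, 2, 1, 0, 8, 3, 2, 1, 4, 5, 6, 7, 9, 8, 3, 2, 1, 4, 3, 5, 4, 6, 8, 3, 2, 9, 5, 3, 4, 1, 2, 3, 8, 9, 7, 6, 5, 4, 3, 8, 1, 2, 3, 4, 5, 6, 7, 10, 7, 6, 5, 4, 3, 2, 1, 8, 3, 4, 5, 6, 7,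 9, 8, 3, 2, 1, 4, 3, 5, 8, 7, 6, 4, 5, 2, 3, 4, 1, 2, 3, 8, 9, 2, 3, 4, 1, 2, 3, 8, 0, 1, 2, 3, 4, 5, 6, 7, 10, 7, 6, 5, 4, 3, 2, 1, 0, 8, 3, 2, 1, 4, 3, 2, 9, 8, 3, 2, 1, 4, 3, 2, 5, 4, 6, 7, 8, 4, 3, 8, 5, 6, 4, 5, 3, 4, 2, 3, 8, 1, 2, 3, 4, 5, 6, 7, 10, 7, 6, 5, 4, 3, 2, 1, 8, 3, 2, 4, 3, 5, 4, 6, 5, 8, 3, 4, 8, 9, 8, 3, 4, 2, 3, 8, 1, 2, 3, 4, 5, 6, 7, 10, 7, 6, 5, 4, 3, 2, 1, 8, 3, 2, 4, 3, 8, 9, 8, 2, 3, 8, 9, 4, 3, 8, 1, 2, 3, 4, 5, 6, 7, 10, 7, 6, 5, 4, 3, 2, 1, 8, 3, 4, 9, 8, 3, 2, 2, 3, 8, 7, 6, 4, 5, 2, 3, 4, 1, 2, 3, 8, 9, 2, 3, 4, 1, 2, 3, 8, 0, 1, 2, 3, 4, 5, 6, 7, 10, 7, 6, 5, 4, 3, 2, 1, 0, 8, 3, 2, 1, 4, 3, 2, 9,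 8, 3, 2, 1, 4, 3, 2, 5, 4, 6, 7, 8, 3, 2, 9, 4, 3, 8, 2, 3, 4, 5, 6, 7, 10, 7, 6, 5, 4, 3, 2, 8, 3, 4, 9, 8, 3, 4, 5, 6, 7, 10, 7, 6, 5, 4, 3, 8, 2, 3, 4, 5, 6, 7, 10, 7, 6, 5, 4, 3, 2],
  [9, 8, 5, 3, 4, 2, 3, 8, 9, 7, 6, 4, 5, 2, 3, 4, 1, 2, 3, 8, 0, 1, 2, 3, 4, 5, 6, 7, 10, 7, 6, 5, 4, 3, 2, 1, 0, 8, 3, 2, 1, 4, 3, 2, 5, 4, 6, 7, 9, 8, 3, 2, 4, 3, 5, 8, 9, 3, 8, 9, 6, 7, 5, 6, 4, 5, 3, 4, 2, 3, 8, 1, 2, 3, 4, 5, 6, 7, 10, 7, 6, 5, 4, 3, 2, 1, 8, 3, 2, 4, 3, 5, 4, 6, 5, 7, 6, 9, 8, 3, 9, 7, 6, 5, 2, 3, 4, 1, 2, 3, 8, 0, 1, 2, 3, 4, 5, 6, 7, 10, 7, 6, 5, 4, 3, 2, 1, 0, 8, 3, 2, 1, 4, 3, 2, 5, 6, 7, 9, 7, 6, 5, 3, 4, 2, 3, 8, 1,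 2, 3, 4, 5, 6, 7, 10, 7, 6, 5, 4, 3, 2, 1, 8, 3, 2, 4, 3, 5, 6, 7, 9, 7, 6, 5, 4, 3, 8, 2, 3, 4, 5, 6, 7, 10, 7, 6, 5, 4, 3, 2, 8, 3, 4, 5, 6, 7, 9, 7, 6, 5, 4, 3, 8, 1, 2, 3, 4, 5, 6, 7, 10, 7, 6, 5, 4, 3, 2, 1, 8, 3, 4, 5, 6, 7, 9, 3, 8, 4, 5, 3, 4, 0, 1, 2, 3, 8, 9, 5, 4, 1, 2, 3, 8, 0, 1, 2, 3, 4, 5, 6, 7, 10, 7, 6, 5, 4, 3, 2, 1, 0, 8, 3, 2, 1, 4, 5, 9, 8, 3, 2, 1, 0, 4, 3, 5, 4, 8, 3, 9, 3, 4, 1, 2, 3, 8, 9, 7, 6, 5, 4, 3, 8, 1, 2, 3, 4, 5, 6, 7, 10, 7, 6, 5, 4, 3, 2, 1, 8, 3, 4, 5, 6, 7, 9, 8, 3, 2, 1, 4, 3, 8, 9, 4, 3, 8, 2, 3, 4, 5, 6, 7, 10, 7, 6, 5, 4, 3, 2, 8, 3, 4, 9, 8, 8, 9, 3, 8, 5, 6, 3, 4, 5, 2, 3, 4, 1, 2, 3, 8,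 9, 4, 5, 2, 3, 4, 1, 2, 3, 8, 0, 1, 2, 3, 4, 5, 6, 7, 10, 7, 6, 5, 4, 3, 2, 1, 0, 8, 3, 2, 1, 4, 3, 2, 5, 4, 9, 8, 3, 2, 1, 4, 3, 2, 5, 4, 3, 6, 5, 8, 3, 9, 8, 7, 6, 5, 4, 3, 8, 2, 3, 4, 5, 6, 7, 10, 7, 6, 5, 4, 3, 2, 8, 3, 4, 5, 6, 7, 8, 9, 4, 3, 8, 4, 5, 2, 3, 4, 0, 1, 2, 3, 8, 9, 7, 6, 4, 5, 3, 4, 1, 2, 3, 8, 0, 1, 2, 3, 4, 5, 6, 7, 10, 7, 6, 5, 4, 3, 2, 1, 0, 8, 3, 2, 1, 4, 3, 5, 4, 6, 7, 9, 8, 3, 2, 1, 0, 4, 3, 2, 5, 4, 8, 3, 4, 9, 8, 8, 9, 3, 8, 2, 3, 4, 5, 6, 7, 10, 7, 6, 5, 4, 3, 2, 8, 3, 9, 8, 6, 7, 10, 7, 6, 7, 5, 6, 4, 5, 3, 4, 1, 2, 3, 8, 9, 2, 3, 4, 1, 2, 3, 8, 0, 1, 2, 3, 4, 5, 6, 7, 10, 7, 6, 5, 4, 3, 2, 1, 0, 8, 3,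 2, 1, 4, 3, 2, 9, 8, 3, 2, 1, 4, 3, 5, 4, 6, 5, 7, 8, 9, 7, 6, 5, 4, 3, 8, 0, 1, 2, 3, 4, 5, 6, 7, 10, 7, 6, 5, 4, 3, 2, 1, 0, 8, 3, 4, 5, 6, 7, 9, 8, 1, 2, 3, 8, 9, 4, 3, 8, 2, 3, 4, 5, 6, 7, 10, 7, 6, 5, 4, 3, 2, 8, 3, 4, 9, 8, 3, 2, 1, 9, 7, 6, 5, 4, 2, 3, 8, 0, 1, 2, 3, 4, 5, 6, 7, 10, 7, 6, 5, 4, 3, 2, 1, 0, 8, 3, 2, 4, 5, 6, 7, 9, 10, 6, 5, 4, 1, 2, 3, 8, 9, 6, 5, 3, 4, 2, 3, 8, 1, 2, 3, 4, 5, 6, 7, 10, 7, 6, 5, 4, 3, 2, 1, 8, 3, 2, 4, 3, 5, 6, 9, 8, 3, 2, 1, 4, 5, 6, 6, 5, 4, 3, 8, 2, 3, 4, 5, 6, 7, 10, 7, 6, 5, 4, 3, 2, 8, 3, 4, 5, 6],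
  [7, 5, 6, 4, 5, 3, 4, 1, 2, 3, 8, 9, 2, 3, 4, 1, 2, 3, 8, 0, 1, 2, 3, 4, 5, 6, 7, 10, 7, 6, 5, 4, 3, 2, 1, 0, 8, 3, 2, 1, 4, 3, 2, 9, 8, 3, 2, 1, 4, 3, 5, 4, 6, 5, 7, 8, 9, 7, 6, 5, 4, 3, 8, 0, 1, 2, 3, 4, 5, 6, 7, 10, 7, 6, 5, 4, 3, 2, 1, 0, 8, 3, 4, 5, 6, 7, 9, 8, 1, 2, 3, 8, 9, 4, 3, 8, 2, 3, 4, 5, 6, 7, 10, 7, 6, 5, 4, 3, 2, 8, 3, 4, 9, 8, 3, 2, 1, 9, 7, 6, 5, 4, 2, 3, 8, 0, 1, 2, 3, 4, 5, 6, 7, 10, 7, 6, 5, 4, 3, 2, 1, 0, 8, 3, 2, 4, 5, 6, 7, 9, 10, 6, 5, 4, 1, 2, 3, 8, 9, 6, 5, 3, 4, 2, 3, 8, 1, 2, 3, 4, 5, 6, 7, 10, 7, 6, 5, 4, 3, 2, 1, 8, 3, 2, 4, 3, 5, 6, 9, 8, 3, 2, 1, 4, 5, 6, 6, 5, 4, 3, 8, 2, 3, 4, 5, 6, 7, 10, 7,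 6, 5, 4, 3, 2, 8, 3, 4, 5, 6, 7, 6, 5, 3, 4, 0, 1, 2, 3, 8, 9, 2, 3, 4, 1, 2, 3, 8, 0, 1, 2, 3, 4, 5, 6, 7, 10, 7, 6, 5, 4, 3, 2, 1, 0, 8, 3, 2, 1, 4, 3, 2, 9, 8, 3, 2, 1, 0, 4, 3, 5, 6, 7, 7, 6, 5, 4, 2, 3, 8, 9, 4, 5, 3, 4, 2, 3, 8, 1, 2, 3, 4, 5, 6, 7, 10, 7, 6, 5, 4, 3, 2, 1, 8, 3, 2, 4, 3, 5, 4, 9, 8, 3, 2, 4, 5, 6, 7, 8, 7, 6, 5, 3, 4, 2, 3, 8, 9, 4, 1, 2, 3, 8, 0, 1, 2, 3, 4, 5, 6, 7, 10, 7, 6, 5, 4, 3, 2, 1, 0, 8, 3, 2, 1, 4, 9, 8, 3, 2, 4, 3, 5, 6, 7, 8, 4, 2, 3, 8, 1, 2, 3, 4, 5, 6, 7, 10, 7, 6, 5, 4, 3, 2, 1, 8, 3, 2, 4, 10, 9, 8, 1, 2, 3, 4, 5, 6, 7, 10, 7, 6, 5, 4, 3, 2, 1, 8, 9, 3, 4, 5, 6, 7, 10, 7, 6, 5, 4, 3, 5,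 4, 3, 8, 2, 3, 4, 5, 6, 7, 10, 7, 6, 5, 4, 3, 2, 8, 3, 4, 5, 10, 7, 10, 7, 4, 5, 2, 3, 4, 1, 2, 3, 8, 9, 7, 6, 4, 5, 2, 3, 4, 1, 2, 3, 8, 0, 1, 2, 3, 4, 5, 6, 7, 10, 7, 6, 5, 4, 3, 2, 1, 0, 8, 3, 2, 1, 4, 3, 2, 5, 4, 6, 7, 9, 8, 3, 2, 1, 4, 3, 2, 5, 4, 6, 4, 5, 3, 4, 1, 2, 3, 8, 9, 7, 6, 5, 4, 3, 8, 1, 2, 3, 4, 5, 6, 7, 10, 7, 6, 5, 4, 3, 2, 1, 8, 3, 4, 5, 6, 7, 9, 8, 3, 2, 1, 4, 3, 5, 4, 6, 3, 8, 5, 6, 4, 5, 3, 4, 2, 3, 8, 1, 2, 3, 4, 5, 6, 7, 10, 7, 6, 5, 4, 3, 2, 1, 8, 3, 2, 4, 3, 5, 4, 6, 5, 8, 3, 2, 3, 8, 1, 2, 3, 4, 5, 6, 7, 10, 7, 6, 5, 4, 3, 2, 1, 8, 3, 2, 9, 4, 3, 8, 2, 3, 4, 5, 6, 7, 10, 7, 6, 5, 4, 3, 2, 8, 3, 4, 9, 10,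 9, 3, 8, 2, 3, 4, 5, 6, 7, 10, 7, 6, 5, 4, 3, 2, 8, 3, 9],
  [9, 0, 1, 2, 3, 8, 4, 5, 3, 4, 2, 3, 8, 9, 7, 6, 5, 3, 4, 1, 2, 3, 8, 0, 1, 2, 3, 4, 5, 6, 7, 10, 7, 6, 5, 4, 3, 2, 1, 0, 8, 3, 2, 1, 4, 3, 5, 6, 7, 9, 8, 3, 2, 4, 3, 5, 4, 8, 3, 2, 1, 0, 9, 6, 4, 5, 3, 4, 1, 2, 3, 8, 9, 7, 6, 5, 4, 3, 8, 0, 1, 2, 3, 4, 5, 6, 7, 10, 7, 6, 5, 4, 3, 2, 1, 0, 8, 3, 4, 5, 6, 7, 9, 8, 3, 2, 1, 4, 3, 5, 4, 6, 3, 4, 0, 1, 2, 3, 8, 9, 2, 3, 4, 1, 2, 3, 8, 0, 1, 2, 3, 4, 5, 6, 7, 10, 7, 6, 5, 4, 3, 2, 1, 0, 8, 3, 2, 1, 4, 3, 2, 9, 8, 3, 2, 1, 0, 4, 3, 9, 7, 6, 5, 4, 3, 8, 1, 2, 3, 4, 5, 6, 7, 10, 7, 6, 5, 4, 3, 2, 1, 8, 3, 4, 5, 6, 7, 9, 2, 3, 8,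 5, 6, 4, 5, 3, 4, 2, 3, 8, 0, 1, 2, 3, 4, 5, 6, 7, 10, 7, 6, 5, 4, 3, 2, 1, 0, 8, 3, 2, 4, 3, 5, 4, 6, 5, 8, 3, 2, 3, 8, 0, 1, 2, 3, 4, 5, 6, 7, 10, 7, 6, 5, 4, 3, 2, 1, 0, 8, 3, 8, 9, 3, 8, 2, 3, 4, 5, 6, 7, 10, 7, 6, 5, 4, 3, 2, 8, 3, 9, 8, 8, 9, 1, 2, 3, 8, 5, 6, 4, 5, 3, 4, 2, 3, 8, 9, 3, 4, 5, 2, 3, 4, 1, 2, 3, 8, 0, 1, 2, 3, 4, 5, 6, 7, 10, 7, 6, 5, 4, 3, 2, 1, 0, 8, 3, 2, 1, 4, 3, 2, 5, 4, 3, 9, 8, 3, 2, 4, 3, 5, 4, 6, 5, 8, 3, 2, 1, 9, 8, 9, 8, 1, 2, 3, 4, 5, 6, 7, 10, 7, 6, 5, 4, 3, 2, 1, 8, 9, 4, 3, 8, 1, 2, 3, 4, 5, 6, 7, 10, 7, 6, 5, 4, 3, 2, 1, 8, 3, 4, 10, 3, 8, 1, 2, 3, 4, 5, 6, 7, 10, 7, 6, 5, 4, 3, 2, 1, 8, 3, 9,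 5, 4, 2, 3, 8, 4, 5, 2, 3, 4, 1, 2, 3, 8, 9, 5, 4, 1, 2, 3, 8, 0, 1, 2, 3, 4, 5, 6, 7, 10, 7, 6, 5, 4, 3, 2, 1, 0, 8, 3, 2, 1, 4, 5, 9, 8, 3, 2, 1, 4, 3, 2, 5, 4, 8, 3, 2, 4, 5, 9, 8, 3, 4, 1, 2, 3, 8, 9, 4, 5, 3, 4, 2, 3, 8, 0, 1, 2, 3, 4, 5, 6, 7, 10, 7, 6, 5, 4, 3, 2, 1, 0, 8, 3, 2, 4, 3, 5, 4, 9, 8, 3, 2, 1, 4, 3, 8, 8, 9, 3, 4, 2, 3, 8, 0, 1, 2, 3, 4, 5, 6, 7, 10, 7, 6, 5, 4, 3, 2, 1, 0, 8, 3, 2, 4, 3, 9, 8, 7, 6, 5, 4, 3, 8, 2, 3, 4, 5, 6, 7, 10, 7, 6, 5, 4, 3, 2, 8, 3, 4, 5, 6, 7, 8, 3, 4, 1, 2, 3, 8, 0, 1, 2, 3, 4, 5, 6, 7, 10, 7, 6, 5, 4, 3, 2, 1, 0, 8, 3, 2, 1, 4, 3, 8, 3, 8, 9, 4, 3, 8, 1, 2, 3, 4, 5, 6, 7, 10, 7, 6, 5,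 4, 3, 2, 1, 8, 3, 4, 9, 8, 3, 1, 2, 3, 4, 5, 6, 7, 10, 7, 6, 5, 4, 3, 2, 1, 0, 1, 2, 3, 8, 9, 3, 8, 7, 6, 5, 2, 3, 4, 1, 2, 3, 8, 0, 1, 2, 3, 4, 5, 6, 7, 10, 7, 6, 5, 4, 3, 2, 1, 0, 8, 3, 2, 1, 4, 3, 2, 5, 6, 7, 8, 3, 9, 8, 3, 2, 1, 0, 8, 7, 6, 5, 3, 4, 2, 3, 8, 1, 2, 3, 4, 5, 6, 7, 10, 7, 6, 5, 4, 3, 2, 1, 8, 3, 2, 4, 3, 5, 6, 7, 8, 5, 6, 7, 10, 7, 6, 5, 3, 4, 0, 1, 2, 3, 8, 9, 7, 6, 5, 4, 2, 3, 8, 0, 1, 2, 3, 4, 5, 6, 7, 10, 7, 6, 5, 4, 3, 2, 1, 0, 8, 3, 2, 4, 5, 6, 7, 9, 8, 3, 2, 1, 0, 4, 3, 2, 3, 4, 5, 6, 7, 10, 7, 6, 5, 4, 3, 2],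
  [8, 9, 1, 2, 3, 8, 4, 5, 3, 4, 2, 3, 8, 9, 7, 6, 5, 2, 3, 4, 1, 2, 3, 8, 0, 1, 2, 3, 4, 5, 6, 7, 10, 7, 6, 5, 4, 3, 2, 1, 0, 8, 3, 2, 1, 4, 3, 2, 5, 6, 7, 9, 8, 3, 2, 4, 3, 5, 4, 8, 3, 2, 1, 9, 8, 6, 5, 4, 3, 8, 9, 7, 6, 5, 4, 3, 8, 2, 3, 4, 5, 6, 7, 10, 7, 6, 5, 4, 3, 2, 8, 3, 4, 5, 6, 7, 9, 8, 3, 4, 5, 6, 2, 3, 8, 9, 3, 4, 2, 3, 8, 1, 2, 3, 4, 5, 6, 7, 10, 7, 6, 5, 4, 3, 2, 1, 8, 3, 2, 4, 3, 9, 8, 3, 2, 3, 8, 9, 7, 6, 5, 4, 2, 3, 8, 1, 2, 3, 4, 5, 6, 7, 10, 7, 6, 5, 4, 3, 2, 1, 8, 3, 2, 4, 5, 6, 7, 9, 8, 3, 2, 3, 8, 9, 3, 4, 2, 3, 8, 1, 2, 3, 4, 5, 6, 7, 10, 7, 6, 5, 4, 3, 2, 1, 8, 3, 2, 4, 3, 9, 8, 3, 2, 2, 3, 8, 5, 6, 4, 5,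 3, 4, 0, 1, 2, 3, 8, 9, 4, 1, 2, 3, 8, 0, 1, 2, 3, 4, 5, 6, 7, 10, 7, 6, 5, 4, 3, 2, 1, 0, 8, 3, 2, 1, 4, 9, 8, 3, 2, 1, 0, 4, 3, 5, 4, 6, 5, 8, 3, 2, 8, 3, 4, 5, 6, 7, 10, 7, 6, 5, 4, 3, 8, 3, 8, 1, 2, 3, 4, 5, 6, 7, 10, 7, 6, 5, 4, 3, 2, 1, 8, 3, 8, 2, 3, 4, 5, 6, 7, 10, 7, 6, 5, 4, 3, 2, 8, 3, 4, 5, 6, 7, 10, 7, 6, 5, 4, 3, 6, 5, 1, 2, 3, 4, 0, 1, 2, 3, 8, 9, 7, 6, 5, 2, 3, 4, 1, 2, 3, 8, 0, 1, 2, 3, 4, 5, 6, 7, 10, 7, 6, 5, 4, 3, 2, 1, 0, 8, 3, 2, 1, 4, 3, 2, 5, 6, 7, 9, 8, 3, 2, 1, 0, 4, 3, 2, 1, 5, 6, 4, 2, 3, 8, 9, 7, 5, 6, 4, 5, 3, 4, 2, 3, 8, 1, 2, 3, 4, 5, 6, 7, 10, 7, 6, 5, 4, 3, 2, 1, 8, 3, 2, 4, 3, 5, 4, 6, 5, 7, 9,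 8, 3, 2, 4, 5, 4, 3, 8, 9, 3, 4, 2, 3, 8, 7, 4, 5, 6, 3, 4, 5, 2, 3, 4, 1, 2, 3, 8, 9, 4, 5, 2, 3, 4, 1, 2, 3, 8, 0, 1, 2, 3, 4, 5, 6, 7, 10, 7, 6, 5, 4, 3, 2, 1, 0, 8, 3, 2, 1, 4, 3, 2, 5, 4, 9, 8, 3, 2, 1, 4, 3, 2, 5, 4, 3, 6, 5, 4, 7, 8, 3, 2, 4, 3, 9, 8, 3, 4, 5, 8, 9, 7, 6, 5, 4, 2, 3, 8, 1, 2, 3, 4, 5, 6, 7, 10, 7, 6, 5, 4, 3, 2, 1, 8, 3, 2, 4, 5, 6, 7, 9, 8, 8, 5, 3, 4, 0, 1, 2, 3, 8, 9, 8, 7, 6, 5, 3, 4, 1, 2, 3, 8, 0, 1, 2, 3, 4, 5, 6, 7, 10, 7, 6, 5, 4, 3, 2, 1, 0, 8, 3, 2, 1, 4, 3, 5, 6, 7, 8, 9, 8, 3, 2, 1, 0, 4, 3, 5, 8, 8, 7, 5, 6, 4, 5, 3, 4, 2, 3, 8, 9, 8, 6, 5, 2, 3, 4, 1, 2, 3, 8, 0, 1, 2, 3, 4, 5, 6, 7, 10, 7,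 6, 5, 4, 3, 2, 1, 0, 8, 3, 2, 1, 4, 3, 2, 5, 6, 8, 9, 8, 3, 2, 4, 3, 5, 4, 6, 5, 7, 8, 9, 3, 8, 2, 3, 4, 5, 6, 7, 10, 7, 6, 5, 4, 3, 2, 8, 3, 9, 9, 8, 3, 4, 2, 3, 8, 1, 2, 3, 4, 5, 6, 7, 10, 7, 6, 5, 4, 3, 2, 1, 8, 3, 2, 4, 3, 8, 9, 3, 8, 9, 4, 3, 8, 1, 2, 3, 4, 5, 6, 7, 10, 7, 6, 5, 4, 3, 2, 1, 8, 3, 4, 9, 8, 3, 9, 4, 3, 8, 2, 3, 4, 5, 6, 7, 10, 7, 6, 5, 4, 3, 2, 8, 3, 4, 9, 2, 3, 8, 0, 1, 2, 3, 4, 5, 6, 7, 10, 7, 6, 5, 4, 3, 2, 1, 0, 8, 3, 2, 9, 4, 3, 8, 2, 3, 4, 5, 6, 7, 10, 7, 6, 5, 4, 3, 2, 8, 3, 4, 9, 8, 7, 6, 3, 4, 5, 2, 3, 4, 0, 1, 2, 3, 8, 9, 2, 3, 4, 1, 2, 3, 8, 0, 1, 2, 3, 4, 5, 6, 7, 10, 7, 6, 5, 4, 3, 2, 1, 0, 8, 3,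 2, 1, 4, 3, 2, 9, 8, 3, 2, 1, 0, 4, 3, 2, 5, 4, 3, 6, 7, 8]]

/-- For each index other than the exception, a conjugate incompatible with it. -/
def witness : List (ℕ × ℕ) := [(0, 0), (2, 65), (0, 2), (1, 67), (0, 4), (0, 5), (0, 6), (0, 7), (1, 88), (0, 9), (0, 10), (0, 11), (0, 12), (0, 13), (0, 14), (0, 15), (4, 96), (2, 81), (0, 18), (1, 83), (0, 20), (0, 21), (1, 62), (0, 23), (0, 24), (1, 73), (0, 26), (0, 27), (0, 28), (0, 29), (1, 102), (0, 31), (1, 112), (0, 33), (0, 34), (1, 51), (0, 36), (0, 37), (0, 38), (0, 39), (2, 8), (2, 25), (0, 42), (0, 43), (0, 44), (0, 45), (0, 46), (0, 47), (1, 96), (0, 49), (0, 50), (1, 35),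 (0, 52), (0, 53), (1, 78), (0, 55), (0, 56), (0, 57), (0, 58), (0, 59), (0, 60), (0, 61), (1, 22), (0, 63), (4, 48), (2, 1), (0, 66), (1, 3), (0, 68), (0, 69), (1, 110), (0, 71), (0, 72), (1, 25), (0, 74), (0, 75), (0, 76), (0, 77), (1, 54), (0, 79), (0, 0), (2, 17), (0, 82), (1, 19), (0, 84), (0, 85), (0, 86), (0, 87), (1, 8), (0, 89), (0, 90), (0, 91), (0, 92), (0, 93), (0, 94), (0, 95), (1, 48), (0, 97), (0, 98), (1, 115), (0, 100), (0, 101), (1, 30), (0, 103), (0, 104), (0, 105), (0, 106), (0, 107), (0, 108), (0, 109), (1, 70), (0, 111), (1, 32), (0, 113), (0, 114), (1, 99), (0, 116), (0, 117), (0, 118), (0, 119), (2, 88), (2,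 73), (0, 122), (0, 123), (0, 124), (0, 125), (0, 126), (0, 127)]

/-- The exceptional index. -/
def zIdx : ℕ := 80

/-- The nonzero fixed vectors of the Sylow subgroup, with a generator whose transposition they move. -/
def fixedVecs : List (ℕ × ℕ) := [(512, 0), (1099, 0), (1611, 0)]

end CfsgLib.Spor.Fi23Two
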