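/-
A base of 23 commuting transpositions in the presented group on ten generators, and the group of the
elements permuting it as listed elements of a Sylow 2-subgroup of the Mathieu group do.
-/
import Cfsg.Agent.Lib.Spor.Fi23Out.Points
import Cfsg.Agent.Lib.Spor.M23Ext.Symbolic
import Cfsg.Agent.Lib.Spor.Fi23Two.Data

set_option autoImplicit false

namespace CfsgLib.Spor.Fi23Two

open CfsgLib.Spor.TC CfsgLib.Spor.Fi23 MulAction
open CfsgLib.Spor (permFn permOf idxPt ptIdx)
open CfsgLib.Spor.M23Ext (W appV)

noncomputable section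

attribute [local instance] actionF

local notation "Gp" => Fi23Out.Gp
local notation "Pt" => Fi23Out.Pt

/-- The point at a position of the base, as a number. -/
def labN (p : ℕ) : ℕ := labs.getD p 0

theorem labN_lt (p : ℕ) : labN p < ActF.act.n := by
  have h : ∀ q ∈ labs, q < 31671 := by decide
  unfold labN
  by_cases hp : p < labs.length
  · rw [List.getD_eq_getElem _ _ hp]; exact h _ (List.getElem_mem hp)
  · rw [List.getD_eq_default _ _ (Nat.not_lt.1 hp)]; exact Nat.lt_of_sub_pos (by decide +kernel)

/-- The point at a position of the base. -/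
def bpt (p : ℕ) : Pt := ⟨labN p, labN_lt p⟩

/-- The transposition at a position of the base. -/
def bt (p : ℕ) : Gp := Fi23Out.trp (bpt p)

/-- A word for the transposition at a position. -/
def tword (p : ℕ) : List ℕ := paths.getD p [] ++ 10 :: (paths.getD p []).reverse

/-- The checks on the base. -/
def baseCheck : Bool :=
  (List.range 23).all fun p =>
    ((paths.getD p []).all fun x => decide (x < 10)) &&
    Nat.beq (ActF.act.wact (paths.getD p []) 0) (labN p) &&
    ((List.range 23).all fun q => Nat.beq (ActF.act.wact (tword p) (labN q)) (labN q))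

theorem baseCheck_true : baseCheck = true := by decide +kernel

theorem labs_nodup : ∀ p < 23, ∀ q < 23, labN p = labN q → p = q := by decide +kernel

theorem K_gt : 10 < ActF.act.K := by decide +kernel

theorem bt_word {p : ℕ} (hp : p < 23) :
    (∀ x ∈ tword p, x < ActF.act.K) ∧ bt p = Fi23Out.el (tword p) := by
  have h := List.all_eq_true.1 baseCheck_true p (List.mem_range.2 hp)
  simp only [Bool.and_eq_true, List.all_eq_true, decide_eq_true_eq] at h
  have hu := h.1.1
  refine ⟨fun x hx => ?_, Fi23Out.trp_word hu (Nat.eq_of_beq_eq_true h.1.2)⟩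
  simp only [tword, List.mem_append, List.mem_cons, List.mem_reverse] at hx
  have hK := K_gt
  rcases hx with hx | rfl | hx
  · have := hu x hx; omega
  · exact hK
  · have := hu x hx; omega

theorem bt_fix {p q : ℕ} (hp : p < 23) (hq : q < 23) : bt p • bpt q = bpt q := by
  have h := List.all_eq_true.1 baseCheck_true p (List.mem_range.2 hp)
  simp only [Bool.and_eq_true, List.all_eq_true, List.mem_range] at h
  obtain ⟨hw, e⟩ := bt_word hp
  rw [e]
  exact Fin.ext ((Fi23Out.el_smul hw _).trans (Nat.eq_of_beq_eq_true (h.2 q hq)))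

theorem bt_comm {p q : ℕ} (hp : p < 23) (hq : q < 23) : Commute (bt p) (bt q) :=
  (Fi23Out.commute_trp_iff _ _).2 (bt_fix hp hq)

theorem bt_sq (p : ℕ) : bt p * bt p = 1 := Fi23Out.trp_sq _

theorem conj_bt (g : Gp) {p q : ℕ} (h : g • bpt p = bpt q) : g * bt p * g⁻¹ = bt q := by
  rw [bt, Fi23Out.conj_trp, h, bt]

/-! ### The elementary abelian group of the base -/

theorem prod_map_mul {ι : Type*} (l : List ι) (f g : ι → Gp)
    (h : ∀ a ∈ l, ∀ b ∈ l, Commute (g a) (f b)) :
    (l.map fun i => f i * g i).prod = (l.map f).prod * (l.map g).prod := by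
  induction l with
  | nil => simp
  | cons a l ih =>
    have hc : Commute (g a) (l.map f).prod := Commute.list_prod_right _ _ fun x hx => by
      obtain ⟨b, hb, rfl⟩ := List.mem_map.1 hx
      exact h a List.mem_cons_self b (List.mem_cons_of_mem a hb)
    rw [List.map_cons, List.map_cons, List.map_cons, List.prod_cons, List.prod_cons, List.prod_cons,
      ih fun x hx y hy => h x (List.mem_cons_of_mem a hx) y (List.mem_cons_of_mem a hy)]
    simp only [mul_assoc]
    rw [← mul_assoc (g a), hc.eq, mul_assoc]

theorem pow_val_add (p : ℕ) (a b : ZMod 2) : bt p ^ (a + b).val = bt p ^ a.val * bt p ^ b.val := by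
  rw [← pow_add]
  refine pow_eq_pow_of_modEq ?_ (show bt p ^ 2 = 1 by rw [pow_two, bt_sq])
  revert a b; decide
where
  pow_eq_pow_of_modEq {m n : ℕ} (h : m % 2 = n % 2) {x : Gp} (hx : x ^ 2 = 1) : x ^ m = x ^ n := by
    rw [← Nat.div_add_mod m 2, ← Nat.div_add_mod n 2, pow_add, pow_add, pow_mul, pow_mul, hx, one_pow,
      one_pow, h]

/-- The product of the base transpositions with given coordinates. -/
def kap (v : W) : Gp := ((List.finRange 11).map fun i : Fin 11 => bt (i : ℕ) ^ (v i).val).prod

theorem kap_add (v w : W) : kap (v + w) = kap v * kap w := by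
  rw [kap, kap, kap, ← prod_map_mul]
  · exact congrArg List.prod (List.map_congr_left fun i _ => pow_val_add _ _ _)
  · intro a _ b _
    exact ((bt_comm (by omega) (by omega)).pow_left _).pow_right _

theorem kap_zero : kap 0 = 1 := by
  rw [kap]
  exact List.prod_eq_one fun x hx => by
    obtain ⟨i, -, rfl⟩ := List.mem_map.1 hx
    simp

theorem kap_sum {ι : Type*} (l : List ι) (f : ι → W) :
    kap ((l.map f).sum) = (l.map fun i => kap (f i)).prod := by
  induction l with
  | nil => simp [kap_zero]
  | cons a l ih => rw [List.map_cons, List.sum_cons, kap_add, ih, List.map_cons, List.prod_cons]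

theorem kap_sq (v : W) : kap v * kap v = 1 := by rw [← kap_add, M23Ext.W_add_self, kap_zero]

theorem kap_comm (v w : W) : Commute (kap v) (kap w) := by
  show _ * _ = _ * _
  rw [← kap_add, ← kap_add, add_comm]

theorem kap_inv (v : W) : (kap v)⁻¹ = kap v := inv_eq_of_mul_eq_one_right (kap_sq v)

theorem kap_smul (c : ZMod 2) (v : W) : kap (c • v) = kap v ^ c.val := by
  rcases (by decide : ∀ z : ZMod 2, z = 0 ∨ z = 1) c with rfl | rfl
  · simp [kap_zero]
  · rw [one_smul, ZMod.val_one, pow_one]

theorem kap_fix (v : W) {q : ℕ} (hq : q < 23) : kap v • bpt q = bpt q := by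
  have : ∀ l : List Gp, (∀ x ∈ l, x • bpt q = bpt q) → l.prod • bpt q = bpt q := by
    intro l
    induction l with
    | nil => intro _; simp
    | cons a l ih =>
      intro h
      rw [List.prod_cons, mul_smul, ih fun x hx => h x (List.mem_cons_of_mem a hx),
        h a List.mem_cons_self]
  refine this _ fun x hx => ?_
  obtain ⟨i, -, rfl⟩ := List.mem_map.1 hx
  rcases (by decide : ∀ z : ZMod 2, z = 0 ∨ z = 1) (v i) with h | h
  · simp [h]
  · rw [h, ZMod.val_one, pow_one]; exact bt_fix (by omega) hq

/-- The coordinates given by the low digits of a number. -/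
def bitsW (n : ℕ) : W := fun a => if n.testBit a then 1 else 0

/-- The word of the product with the given coordinates. -/
def kapWord (n : ℕ) : List ℕ :=
  (List.range 11).flatMap fun i => if n.testBit i then tword i else []

theorem kap_bits (n : ℕ) : (∀ x ∈ kapWord n, x < ActF.act.K) ∧ kap (bitsW n) = Fi23Out.el (kapWord n) := by
  refine ⟨fun x hx => ?_, ?_⟩
  · obtain ⟨i, hi, hx⟩ := List.mem_flatMap.1 hx
    split at hx
    · exact (bt_word (by have := List.mem_range.1 hi; omega)).1 x hx
    · simp at hx
  · have hmap : (List.range 11) = (List.finRange 11).map fun i : Fin 11 => (i : ℕ) := by decide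
    rw [kapWord, hmap, List.flatMap_map]
    unfold kap
    induction List.finRange 11 with
    | nil => rfl
    | cons i l ih =>
      have hi := i.2
      rw [List.map_cons, List.prod_cons, ih, List.flatMap_cons]
      show _ = ev _ (_ ++ _)
      rw [ev_append]
      refine congrArg (· * _) ?_
      cases hb : n.testBit (i : ℕ) with
      | false => simp [bitsW, hb, ev]
      | true =>
        rw [show bitsW n i = 1 by simp [bitsW, hb], ZMod.val_one, pow_one, if_pos rfl]
        exact (bt_word (by omega)).2

/-- The coordinates of a position. -/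
def col (p : ℕ) : ℕ := cols.getD p 0

/-- The checks on the coordinates and on three vectors. -/
def colCheck : Bool :=
  ((List.range 23).all fun p => (List.range 10).all fun x =>
    Nat.beq (ActF.act.wact (kapWord (col p) ++ tword p) (Fi23Out.ptN x)) (Fi23Out.ptN x)) &&
  (fixedVecs.all fun m => decide (m.2 < 10) &&
    !(Nat.beq (ActF.act.wact (kapWord m.1) (Fi23Out.ptN m.2)) (Fi23Out.ptN m.2)))

theorem colCheck_true : colCheck = true := by decide +kernel

theorem bt_eq_kap {p : ℕ} (hp : p < 23) : bt p = kap (bitsW (col p)) := by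
  have h := colCheck_true
  simp only [colCheck, Bool.and_eq_true, List.all_eq_true, List.mem_range] at h
  obtain ⟨hk, ek⟩ := kap_bits (col p)
  obtain ⟨ht, et⟩ := bt_word hp
  have h1 : kap (bitsW (col p)) * bt p = 1 := Fi23Out.commute_gens fun x hx => by
    rw [ek, et, show Fi23Out.el (kapWord (col p)) * Fi23Out.el (tword p) =
      Fi23Out.el (kapWord (col p) ++ tword p) from (ev_append _ _ _).symm]
    refine Fin.ext ((Fi23Out.el_smul ?_ _).trans (Nat.eq_of_beq_eq_true (h.1 p hp x hx)))
    intro y hy
    rcases List.mem_append.1 hy with hy | hy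
    · exact hk y hy
    · exact ht y hy
  rw [← inv_eq_of_mul_eq_one_left h1]
  exact (inv_eq_of_mul_eq_one_right (bt_sq p)).symm

theorem kap_fixed_ne {m : ℕ × ℕ} (hm : m ∈ fixedVecs) : kap (bitsW m.1) ≠ 1 := fun e => by
  have h := colCheck_true
  simp only [colCheck, Bool.and_eq_true, List.all_eq_true, Bool.not_eq_true'] at h
  obtain ⟨hk, ek⟩ := kap_bits m.1
  have h2 := (Fi23Out.el_smul hk (Fi23Out.gpt m.2))
  rw [← ek, e, one_smul] at h2
  have := (h.2 m hm).2
  rw [show ActF.act.wact (kapWord m.1) (Fi23Out.ptN m.2) = Fi23Out.ptN m.2 from h2.symm,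
    Nat.beq_refl] at this
  exact Bool.noConfusion this

/-! ### The elements permuting the base -/

/-- The listed permutation of an index. -/
def sig (k : ℕ) : Equiv.Perm Cfsg.GolayPt := permOf (M23Ext.el k)

/-- An element permutes the base as a given permutation. -/
def Acts (g : Gp) (σ : Equiv.Perm Cfsg.GolayPt) : Prop :=
  ∀ x : Cfsg.GolayPt, x ≠ none → g • bpt (ptIdx x) = bpt (ptIdx (σ x))

theorem sig_none {k : ℕ} (hk : k < 128) : sig k none = none :=
  MulAction.mem_stabilizer_iff.1 (SylTwoM23.valid.mem_G k hk).2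

theorem ptIdx_lt' {x : Cfsg.GolayPt} (hx : x ≠ none) : ptIdx x < 23 := by
  revert hx; revert x; decide

theorem sig_ne {k : ℕ} (hk : k < 128) {x : Cfsg.GolayPt} (hx : x ≠ none) : sig k x ≠ none :=
  fun h => hx ((sig k).injective (h.trans (sig_none hk).symm))

theorem acts_one : Acts 1 1 := fun x _ => one_smul _ _

theorem acts_mul {g h : Gp} {σ τ : Equiv.Perm Cfsg.GolayPt} (hτ : ∀ x, x ≠ none → τ x ≠ none)
    (hg : Acts g σ) (hh : Acts h τ) : Acts (g * h) (σ * τ) := fun x hx => by
  rw [mul_smul, hh x hx, hg _ (hτ x hx)]; rfl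

theorem acts_unique {g : Gp} {a b : ℕ} (ha : a < 128) (hb : b < 128) (h₁ : Acts g (sig a))
    (h₂ : Acts g (sig b)) : sig a = sig b := Equiv.ext fun x => by
  by_cases hx : x = none
  · rw [hx, sig_none ha, sig_none hb]
  · have e := congrArg Fin.val ((h₁ x hx).symm.trans (h₂ x hx))
    have := labs_nodup _ (ptIdx_lt' (sig_ne ha hx)) _ (ptIdx_lt' (sig_ne hb hx)) e
    rw [← CfsgLib.Spor.idxPt_ptIdx (sig a x), this, CfsgLib.Spor.idxPt_ptIdx]

theorem sig_zero : sig 0 = 1 := SylTwoM23.valid.permOf_zero

theorem acts_kap (v : W) : Acts (kap v) (sig 0) := fun x hx => by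
  rw [sig_zero, Equiv.Perm.one_apply, kap_fix v (ptIdx_lt' hx)]

/-- The matrix of an index on coordinates. -/
def matK (k : ℕ) : List ℕ := (List.range 11).map fun i => col (permFn (M23Ext.el k) i)

theorem conj_kap {g : Gp} {k : ℕ} (hk : k < 128) (hg : Acts g (sig k)) (v : W) :
    g * kap v * g⁻¹ = kap (appV (matK k) v) := by
  have hperm : CfsgLib.Spor.isPermCode (M23Ext.el k) = true := SylTwoM23.valid.perm hk
  have hcol : ∀ i : Fin 11, g * bt (i : ℕ) * g⁻¹ = kap (bitsW (col (permFn (M23Ext.el k) i))) := by
    intro i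
    have hi := i.2
    have hx : idxPt (i : ℕ) ≠ none := fun e => by
      have := congrArg ptIdx e
      rw [CfsgLib.Spor.ptIdx_idxPt _ (by omega)] at this
      exact absurd (this.trans (show ptIdx none = 23 from rfl)) (by omega)
    have h := hg _ hx
    rw [CfsgLib.Spor.ptIdx_idxPt _ (by omega)] at h
    have e : ptIdx (sig k (idxPt (i : ℕ))) = permFn (M23Ext.el k) i := by
      rw [sig, CfsgLib.Spor.permOf_idxPt hperm (by omega),
        CfsgLib.Spor.ptIdx_idxPt _ (CfsgLib.Spor.permFn_lt hperm (by omega))]
    rw [conj_bt g h, e]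
    refine bt_eq_kap ?_
    rw [← e]
    exact ptIdx_lt' (sig_ne hk hx)
  have hv : appV (matK k) v =
      ((List.finRange 11).map fun i : Fin 11 => v i • bitsW (col (permFn (M23Ext.el k) i))).sum := by
    rw [← List.ofFn_eq_map, List.sum_ofFn]
    funext a
    rw [Finset.sum_apply]
    refine Finset.sum_congr rfl fun i _ => ?_
    rw [matK, M23Ext.getD_map_range i.2]
    cases hb : (col (permFn (M23Ext.el k) (i : ℕ))).testBit (a : ℕ) <;> simp [bitsW, hb]
  rw [hv, kap_sum, kap, ← MulAut.conj_apply, map_list_prod, List.map_map]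
  refine congrArg List.prod (List.map_congr_left fun i _ => ?_)
  rw [Function.comp_apply, map_pow, MulAut.conj_apply, hcol i, kap_smul]

end

end CfsgLib.Spor.Fi23Two
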