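/-
A Sylow 2-subgroup of the presented group normalising the base.
-/
import Cfsg.Agent.Lib.Spor.Fi23Two.Base
import Mathlib.GroupTheory.Sylow

set_option autoImplicit false

namespace CfsgLib.Spor.Fi23Two

open CfsgLib.Spor.TC CfsgLib.Spor.Fi23 MulAction
open CfsgLib.Spor (permFn permOf idxPt ptIdx)
open CfsgLib.Spor.M23Ext (W appV letters)

noncomputable section

attribute [local instance] actionF

local notation "Gp" => Fi23Out.Gp

/-- The checks on the seven words. -/
def wordCheck : Bool :=
  (List.range 7).all fun j => ((tWords.getD j []).all fun x => decide (x < 11)) &&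
    (List.range 23).all fun p => Nat.beq (ActF.act.wact (tWords.getD j []) (labN p))
      (labN (permFn (M23Ext.el (2 ^ j)) p))

theorem wordCheck_true : wordCheck = true := by decide +kernel

theorem word_acts {j : ℕ} (hj : j < 7) : Acts (Fi23Out.el (tWords.getD j [])) (sig (2 ^ j)) := by
  intro x hx
  have h := wordCheck_true
  simp only [wordCheck, Bool.and_eq_true, List.all_eq_true, List.mem_range, decide_eq_true_eq] at h
  obtain ⟨hw, hp⟩ := h j hj
  have hperm : CfsgLib.Spor.isPermCode (M23Ext.el (2 ^ j)) = true :=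
    SylTwoM23.valid.perm (Nat.pow_lt_pow_right (by norm_num) hj)
  refine Fin.ext ((Fi23Out.el_smul (fun y hy => lt_of_le_of_lt (Nat.le_of_lt_succ (hw y hy)) K_gt) _).trans ?_)
  show ActF.act.wact _ (labN (ptIdx x)) = labN (ptIdx (sig (2 ^ j) x))
  rw [Nat.eq_of_beq_eq_true (hp _ (ptIdx_lt' hx)), sig, CfsgLib.Spor.permOf_apply hperm,
    CfsgLib.Spor.ptIdx_idxPt _ (CfsgLib.Spor.permFn_lt hperm (CfsgLib.Spor.ptIdx_lt x))]

/-! ### The group -/

/-- The elements permuting the base as a listed element does. -/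
def normM : Subgroup Gp where
  carrier := {g | ∃ k < 128, Acts g (sig k)}
  one_mem' := ⟨0, by norm_num, by rw [sig_zero]; exact acts_one⟩
  mul_mem' := by
    rintro g h ⟨a, ha, hg⟩ ⟨b, hb, hh⟩
    obtain ⟨c, hc, e⟩ := SylTwoM23.valid.mul_mem (a := a) (b := b) ha hb
    refine ⟨c, hc, ?_⟩
    rw [show sig c = sig a * sig b from e.symm]
    exact acts_mul (fun x hx => sig_ne hb hx) hg hh
  inv_mem' := by
    rintro g ⟨a, ha, hg⟩
    have hi := SylTwoM23.valid.grp.inv_mem (x := sig a) ⟨a, ha, rfl⟩
    obtain ⟨b, hb, e⟩ := hi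
    refine ⟨b, hb, fun x hx => ?_⟩
    rw [inv_smul_eq_iff, hg _ (sig_ne hb hx)]
    rw [show sig b = (sig a)⁻¹ from e]
    simp

theorem mem_normM {g : Gp} : g ∈ normM ↔ ∃ k < 128, Acts g (sig k) := Iff.rfl

/-- The permutation induced on the base. -/
def perm (g : normM) : Equiv.Perm Cfsg.GolayPt := sig (mem_normM.1 g.2).choose

theorem perm_eq {g : normM} {k : ℕ} (hk : k < 128) (h : Acts (g : Gp) (sig k)) : perm g = sig k :=
  acts_unique (mem_normM.1 g.2).choose_spec.1 hk (mem_normM.1 g.2).choose_spec.2 h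

/-- The action on the base, as a homomorphism. -/
def permHom : normM →* Equiv.Perm Cfsg.GolayPt :=
  MonoidHom.mk' perm fun g h => by
    obtain ⟨a, ha, hg⟩ := mem_normM.1 g.2
    obtain ⟨b, hb, hh⟩ := mem_normM.1 h.2
    obtain ⟨c, hc, e⟩ := SylTwoM23.valid.mul_mem (a := a) (b := b) ha hb
    rw [perm_eq ha hg, perm_eq hb hh, perm_eq hc (k := c) (by
      rw [show sig c = sig a * sig b from e.symm]
      exact acts_mul (fun x hx => sig_ne hb hx) hg hh)]
    exact e.symm

theorem range_permHom : permHom.range = SylTwoM23.valid.grp := by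
  refine le_antisymm ?_ ?_
  · rintro σ ⟨g, rfl⟩
    exact ⟨_, (mem_normM.1 g.2).choose_spec.1, rfl⟩
  · rintro σ ⟨k, hk, rfl⟩
    induction k using Nat.strong_induction_on with
    | _ k ih =>
      rcases hl : letters k with _ | ⟨i, r⟩
      · obtain rfl := M23Ext.letters_nil hk hl
        exact ⟨1, (map_one permHom).trans sig_zero.symm⟩
      · obtain ⟨hi, hm, hk', hr⟩ := M23Ext.letters_cons hk hl
        have hle : 2 ^ i ≤ k := hm ▸ Nat.mod_le _ _
        have hp : 0 < 2 ^ i := Nat.two_pow_pos i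
        have hi' : 2 ^ i < 128 := Nat.pow_lt_pow_right (by norm_num) hi
        have hd : sig k = sig (2 ^ i) * sig (k - 2 ^ i) := SylTwoM23.valid.decomp hi hk hm
        show sig k ∈ permHom.range
        rw [hd]
        exact Subgroup.mul_mem _ ⟨⟨_, 2 ^ i, hi', word_acts hi⟩, perm_eq hi' (word_acts hi)⟩
          (ih _ (by omega) hk')

/-- The group generated by the base, inside the normaliser. -/
def baseK : Subgroup normM where
  carrier := {g | ∃ v, (g : Gp) = kap v}
  one_mem' := ⟨0, kap_zero.symm⟩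
  mul_mem' := by
    rintro g h ⟨v, hv⟩ ⟨w, hw⟩
    exact ⟨v + w, by rw [Subgroup.coe_mul, hv, hw, kap_add]⟩
  inv_mem' := by
    rintro g ⟨v, hv⟩
    exact ⟨v, by rw [Subgroup.coe_inv, hv, kap_inv]⟩

/-- The check that any nonzero vector leads to a listed fixed vector. -/
def descend : ℕ → ℕ → Bool
  | 0, _ => false
  | f + 1, n => (fixedVecs.any fun m => m.1 == n) || (List.range 7).any fun j =>
      let d := n ^^^ ((List.range 11).map fun i =>
        if n.testBit i then col (permFn (M23Ext.el (2 ^ j)) i) else 0).foldr (· ^^^ ·) 0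
      (d != 0) && descend f d

theorem descend_all : (List.range 2048).all (fun n => n == 0 || descend 12 n) = true := by
  decide +kernel

theorem cols_lt : ∀ c ∈ cols, c < 2048 := by decide

theorem bitsW_xor (a b : ℕ) : bitsW (a ^^^ b) = bitsW a + bitsW b := by
  funext i
  simp only [bitsW, Pi.add_apply, Nat.testBit_xor]
  cases a.testBit i <;> cases b.testBit i <;> decide

theorem bitsW_fold (l : List ℕ) : bitsW (l.foldr (· ^^^ ·) 0) = (l.map bitsW).sum := by
  induction l with
  | nil => funext i; simp [bitsW]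
  | cons a l ih => rw [List.foldr_cons, bitsW_xor, ih, List.map_cons, List.sum_cons]

theorem descend_sound : ∀ f n, descend f n = true → kap (bitsW n) ≠ 1
  | 0, _, h => by simp [descend] at h
  | f + 1, n, h => by
    intro e
    rw [descend, Bool.or_eq_true, List.any_eq_true, List.any_eq_true] at h
    rcases h with ⟨m, hm, hn⟩ | ⟨j, hj, hd⟩
    · rw [← eq_of_beq hn] at e
      exact kap_fixed_ne hm e
    · rw [Bool.and_eq_true] at hd
      rw [List.mem_range] at hj
      refine descend_sound f _ hd.2 ?_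
      have hc := conj_kap (Nat.pow_lt_pow_right (by norm_num) hj) (word_acts hj) (bitsW n)
      rw [e, mul_one, mul_inv_cancel] at hc
      have happ : appV (matK (2 ^ j)) (bitsW n) = bitsW (((List.range 11).map fun i =>
          if n.testBit i then col (permFn (M23Ext.el (2 ^ j)) i) else 0).foldr (· ^^^ ·) 0) := by
        funext a
        rw [bitsW_fold, List.map_map, show ∀ l : List W, l.sum a = (l.map fun w : W => w a).sum from
          fun l => by induction l <;> simp [*], List.map_map, M23Ext.sum_map_range, Finset.sum_range]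
        refine Finset.sum_congr rfl fun i _ => ?_
        rw [matK, M23Ext.getD_map_range i.2]
        cases hb : (col (permFn (M23Ext.el (2 ^ j)) (i : ℕ))).testBit (a : ℕ) <;>
          cases hn : n.testBit (i : ℕ) <;> simp [bitsW, hb, hn]
      rw [bitsW_xor, kap_add, e, one_mul, ← happ, ← hc]

theorem kap_injective : Function.Injective kap := by
  intro v w h
  refine M23Ext.W_eq_of_add (by_contra fun hne => ?_)
  have e : kap (v + w) = 1 := by rw [kap_add, h, kap_sq]
  generalize v + w = u at hne e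
  have key : ∀ u : W, ∃ n < 2048, bitsW n = u := by
    intro u
    refine ⟨CfsgLib.Spor.maskFn (fun i => if h : i < 11 then decide (u ⟨i, h⟩ = 1) else false) 11,
      CfsgLib.Spor.maskFn_lt _ _, ?_⟩
    funext a
    simp only [bitsW, CfsgLib.Spor.testBit_maskFn, a.2, decide_true, Bool.true_and, dite_true,
      decide_eq_true_eq]
    rcases (by decide : ∀ z : ZMod 2, z = 0 ∨ z = 1) (u a) with h | h <;> simp [h]
  obtain ⟨n, hn, rfl⟩ := key u
  have hd := List.all_eq_true.1 descend_all n (List.mem_range.2 hn)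
  rw [Bool.or_eq_true, beq_iff_eq] at hd
  rcases hd with rfl | hd
  · exact hne (funext fun a => by simp [bitsW])
  · exact descend_sound _ _ hd e

theorem card_baseK : Nat.card baseK = 2 ^ 11 := by
  let f : W → baseK := fun v => ⟨⟨kap v, 0, by norm_num, acts_kap v⟩, v, rfl⟩
  have hf : Function.Bijective f := by
    refine ⟨fun a b e => kap_injective (congrArg (fun x : baseK => ((x : normM) : Gp)) e), fun y => ?_⟩
    obtain ⟨v, hv⟩ := y.2
    exact ⟨v, Subtype.ext (Subtype.ext hv.symm)⟩
  rw [← Nat.card_eq_of_bijective f hf, Nat.card_eq_fintype_card, Fintype.card_fun, ZMod.card,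
    Fintype.card_fin]

theorem baseK_normal : baseK.Normal := by
  constructor
  rintro n ⟨v, hv⟩ g
  obtain ⟨k, hk, hg⟩ := mem_normM.1 g.2
  exact ⟨appV (matK k) v, by
    rw [Subgroup.coe_mul, Subgroup.coe_mul, Subgroup.coe_inv, hv, conj_kap hk hg]⟩

theorem finite_gp : Finite Gp := Nat.finite_of_card_ne_zero card_le.1

/-- A Sylow 2-subgroup of the presented group and its action on the base. -/
theorem exists_sylow : ∃ P : Sylow 2 Gp,
    (∀ v, kap v ∈ (P : Subgroup Gp)) ∧
    (∀ g ∈ (P : Subgroup Gp), ∃ k < 128, Acts g (sig k)) ∧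
    (∀ k < 128, ∃ g ∈ (P : Subgroup Gp), Acts g (sig k)) ∧
    (∀ g ∈ (P : Subgroup Gp), Acts g (sig 0) → ∃ v, g = kap v) := by
  haveI := finite_gp
  haveI : Fact (Nat.Prime 2) := ⟨Nat.prime_two⟩
  have hB : IsPGroup 2 baseK := IsPGroup.of_card card_baseK
  obtain ⟨Q, hQ⟩ := hB.exists_le_sylow
  let PG : Subgroup Gp := (Q : Subgroup normM).map normM.subtype
  have hPG : IsPGroup 2 PG := Q.isPGroup'.map _
  have himg : (Q : Subgroup normM).map permHom = SylTwoM23.valid.grp := by
    rw [← range_permHom]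
    let Q' := Q.mapSurjective permHom.rangeRestrict_surjective
    have hr : IsPGroup 2 permHom.range := IsPGroup.of_card (n := 7) (by
      rw [range_permHom, SylTwoM23.valid.card_grp]; rfl)
    have htop : (Q' : Subgroup permHom.range) = ⊤ :=
      (Q'.is_maximal' (hr.to_subgroup ⊤) le_top).symm
    rw [Sylow.coe_mapSurjective] at htop
    calc (Q : Subgroup normM).map permHom
        = ((Q : Subgroup normM).map permHom.rangeRestrict).map permHom.range.subtype := by
          rw [Subgroup.map_map]; rfl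
      _ = permHom.range := by rw [htop, ← MonoidHom.range_eq_map, Subgroup.range_subtype]
  let q : (Q : Subgroup normM) →* Equiv.Perm Cfsg.GolayPt := permHom.comp (Q : Subgroup normM).subtype
  have hq : q.range = SylTwoM23.valid.grp := by
    rw [← himg, MonoidHom.range_comp, Subgroup.range_subtype]
  have hcard : Nat.card (Q : Subgroup normM) = Nat.card q.ker * 128 := by
    rw [← Subgroup.card_mul_index q.ker, Subgroup.index_ker, hq, SylTwoM23.valid.card_grp]
    rfl
  have hle : baseK.subgroupOf Q ≤ q.ker := by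
    intro g hg
    obtain ⟨v, hv⟩ := Subgroup.mem_subgroupOf.1 hg
    show perm _ = 1
    rw [perm_eq (k := 0) (by norm_num) (hv ▸ acts_kap v), sig_zero]
  have hcB : Nat.card (baseK.subgroupOf Q) = 2 ^ 11 :=
    (Nat.card_congr (Subgroup.subgroupOfEquivOfLe hQ).toEquiv).trans card_baseK
  have hcPG : Nat.card PG = Nat.card (Q : Subgroup normM) :=
    (Nat.card_congr ((Q : Subgroup normM).equivMapOfInjective _ normM.subtype_injective).toEquiv).symm
  obtain ⟨m, hm⟩ := IsPGroup.iff_card.1 hPG
  have hm18 : m ≤ 18 := by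
    by_contra hc
    have h19 : 2 ^ 19 ∣ Nat.card Gp := (dvd_trans (pow_dvd_pow 2 (by omega : 19 ≤ m))
      (hm ▸ Subgroup.card_subgroup_dvd_card PG))
    rw [show Nat.card Gp = 4089470473293004800 from card_eq] at h19
    exact absurd h19 (by decide +kernel)
  have hker_le : Nat.card q.ker ≤ 2 ^ 11 := by
    have h1 : 2 ^ m ≤ 2 ^ 18 := Nat.pow_le_pow_right (by norm_num) hm18
    rw [hcPG, hcard] at hm
    omega
  have hker : q.ker = baseK.subgroupOf Q :=
    (Subgroup.eq_of_le_of_card_ge hle (by rw [hcB]; exact hker_le)).symm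
  have hc18 : Nat.card PG = 2 ^ 18 := by
    rw [hcPG, hcard, hker, hcB]
    norm_num
  have hsyl : ∃ P : Sylow 2 Gp, (P : Subgroup Gp) = PG := by
    obtain ⟨P, hP⟩ := hPG.exists_le_sylow
    refine ⟨P, (Subgroup.eq_of_le_of_card_ge hP ?_).symm⟩
    obtain ⟨m', hm'⟩ := IsPGroup.iff_card.1 P.isPGroup'
    rw [hc18, hm']
    refine Nat.pow_le_pow_right (by norm_num) ?_
    by_contra hc
    have h19 : 2 ^ 19 ∣ Nat.card Gp := (dvd_trans (pow_dvd_pow 2 (by omega : 19 ≤ m'))
      (hm' ▸ Subgroup.card_subgroup_dvd_card (P : Subgroup Gp)))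
    rw [show Nat.card Gp = 4089470473293004800 from card_eq] at h19
    exact absurd h19 (by decide +kernel)
  obtain ⟨P, hP⟩ := hsyl
  refine ⟨P, fun v => ?_, fun g hg => ?_, fun k hk => ?_, fun g hg h0 => ?_⟩
  · rw [hP]
    exact ⟨⟨kap v, 0, by norm_num, acts_kap v⟩, hQ ⟨v, rfl⟩, rfl⟩
  · rw [hP] at hg
    obtain ⟨g', -, rfl⟩ := hg
    exact mem_normM.1 g'.2
  · have hmem : sig k ∈ (Q : Subgroup normM).map permHom := himg ▸ ⟨k, hk, rfl⟩
    obtain ⟨g', hg', e⟩ := hmem
    refine ⟨g', hP ▸ ⟨g', hg', rfl⟩, ?_⟩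
    obtain ⟨a, ha, hga⟩ := mem_normM.1 g'.2
    rw [← e, show permHom g' = sig a from perm_eq ha hga]
    exact hga
  · rw [hP] at hg
    obtain ⟨g', hg', rfl⟩ := hg
    have : (⟨g', hg'⟩ : (Q : Subgroup normM)) ∈ q.ker := by
      show perm g' = 1
      rw [perm_eq (k := 0) (by norm_num) h0, sig_zero]
    rw [hker] at this
    exact Subgroup.mem_subgroupOf.1 this

end

end CfsgLib.Spor.Fi23Two
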