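/-
The normal elementary abelian subgroups of a Sylow 2-subgroup of the presented group.
-/
import Cfsg.Agent.Lib.Spor.Fi23Two.Sylow
import Cfsg.Prelude.Def_Transfer

set_option autoImplicit false

namespace CfsgLib.Spor.Fi23Two

open CfsgLib.Spor.TC CfsgLib.Spor.Fi23 MulAction
open CfsgLib.Spor (permFn permOf permMulCode)
open CfsgLib.Spor.M23Ext (W appV)

noncomputable section

attribute [local instance] actionF

local notation "Gp" => Fi23Out.Gp

/-- The image of a mask under a matrix. -/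
def appN (M : List ℕ) (n : ℕ) : ℕ :=
  ((List.range 11).map fun i => if n.testBit i then M.getD i 0 else 0).foldr (· ^^^ ·) 0

theorem appN_spec (M : List ℕ) (n : ℕ) : bitsW (appN M n) = appV M (bitsW n) := by
  funext a
  rw [appN, bitsW_fold, List.map_map, show ∀ l : List W, l.sum a = (l.map fun w : W => w a).sum from
    fun l => by induction l <;> simp [*], List.map_map, M23Ext.sum_map_range, Finset.sum_range]
  refine Finset.sum_congr rfl fun i _ => ?_
  simp only [Function.comp_apply, List.getD_eq_getElem?_getD]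
  generalize M[(i : ℕ)]?.getD 0 = m
  cases hb : m.testBit (a : ℕ) <;> cases hn : n.testBit (i : ℕ) <;> simp [bitsW, hb, hn]

/-- An index is excluded: it is not an involution, or a conjugate does not commute with it, or does
not act quadratically with it. -/
def witOk (k : ℕ) : Bool :=
  let t := (witness.getD k (0, 0)).1
  let c := (witness.getD k (0, 0)).2
  decide (t < 128) && decide (c < 128) &&
    (permMulCode (M23Ext.el t) (M23Ext.el k) == permMulCode (M23Ext.el c) (M23Ext.el t)) &&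
    (!(permMulCode (M23Ext.el k) (M23Ext.el k) == permMulCode (M23Ext.el 0) (M23Ext.el 0)) ||
      !(permMulCode (M23Ext.el k) (M23Ext.el c) == permMulCode (M23Ext.el c) (M23Ext.el k)) ||
      (List.range 11).any fun i =>
        appN (matK c) (2 ^ i ^^^ appN (matK k) (2 ^ i)) % 2048 != (2 ^ i ^^^ appN (matK k) (2 ^ i)) % 2048)

theorem witOk_all : (List.range 128).all (fun k => k == 0 || k == zIdx || witOk k) = true := by
  decide +kernel

theorem fix_count :
    ((List.range 2048).filter fun n => appN (matK zIdx) n % 2048 == n).length = 128 := by decide +kernel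

theorem bitsW_mod (n : ℕ) : bitsW (n % 2048) = bitsW n := by
  funext a
  simp only [bitsW, show (2048 : ℕ) = 2 ^ 11 from rfl, Nat.testBit_mod_two_pow, a.2, decide_true,
    Bool.true_and]

theorem eq_of_bitsW {a b : ℕ} (ha : a < 2048) (hb : b < 2048) (h : bitsW a = bitsW b) : a = b := by
  refine Nat.eq_of_testBit_eq fun i => ?_
  by_cases hi : i < 11
  · have := congrFun h ⟨i, hi⟩
    simp only [bitsW] at this
    cases hx : a.testBit i <;> cases hy : b.testBit i <;> simp [hx, hy] at this ⊢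
  · have hp : 2 ^ 11 ≤ 2 ^ i := Nat.pow_le_pow_right (by norm_num) (show 11 ≤ i by omega)
    rw [Nat.testBit_eq_false_of_lt (ha.trans_le hp), Nat.testBit_eq_false_of_lt (hb.trans_le hp)]

theorem exists_bitsW (u : W) : ∃ n < 2048, bitsW n = u := by
  refine ⟨CfsgLib.Spor.maskFn (fun i => if h : i < 11 then decide (u ⟨i, h⟩ = 1) else false) 11,
    CfsgLib.Spor.maskFn_lt _ _, ?_⟩
  funext a
  simp only [bitsW, CfsgLib.Spor.testBit_maskFn, a.2, decide_true, Bool.true_and, dite_true,
    decide_eq_true_eq]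
  rcases (by decide : ∀ z : ZMod 2, z = 0 ∨ z = 1) (u a) with h | h <;> simp [h]

theorem sig_eq_iff {a b c d : ℕ} (ha : a < 128) (hb : b < 128) (hc : c < 128) (hd : d < 128) :
    permMulCode (M23Ext.el a) (M23Ext.el b) = permMulCode (M23Ext.el c) (M23Ext.el d) ↔
      sig a * sig b = sig c * sig d :=
  CfsgLib.Spor.permMulCode_eq_iff (SylTwoM23.valid.perm ha) (SylTwoM23.valid.perm hb)
    (SylTwoM23.valid.perm hc) (SylTwoM23.valid.perm hd)

/-- The base group. -/
def baseG : Subgroup Gp where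
  carrier := {g | ∃ v, g = kap v}
  one_mem' := ⟨0, kap_zero.symm⟩
  mul_mem' := by rintro g h ⟨v, rfl⟩ ⟨w, rfl⟩; exact ⟨v + w, (kap_add v w).symm⟩
  inv_mem' := by rintro g ⟨v, rfl⟩; exact ⟨v, kap_inv v⟩

theorem card_baseG : Nat.card baseG = 2 ^ 11 := by
  let f : W → baseG := fun v => ⟨kap v, v, rfl⟩
  have hf : Function.Bijective f :=
    ⟨fun a b e => kap_injective (congrArg Subtype.val e), fun y => by
      obtain ⟨v, hv⟩ := y.2; exact ⟨v, Subtype.ext hv.symm⟩⟩
  rw [← Nat.card_eq_of_bijective f hf, Nat.card_eq_fintype_card, Fintype.card_fun, ZMod.card,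
    Fintype.card_fin]

theorem normal_elementary {P : Subgroup Gp} (hmem : ∀ v, kap v ∈ P)
    (hacts : ∀ g ∈ P, ∃ k < 128, Acts g (sig k))
    (honto : ∀ k < 128, ∃ g ∈ P, Acts g (sig k))
    (hker : ∀ g ∈ P, Acts g (sig 0) → ∃ v, g = kap v)
    {A : Subgroup Gp} (hle : A ≤ P) (hnorm : ∀ g ∈ P, ∀ a ∈ A, g * a * g⁻¹ ∈ A)
    (hA : Cfsg.IsElementaryAbelian 2 A) :
    Nat.card A ≤ 2 ^ 11 ∧ (Nat.card A = 2 ^ 11 → A = baseG) := by
  obtain ⟨⟨⟨hcomm⟩⟩, hsq⟩ := hA
  have hc : ∀ a ∈ A, ∀ b ∈ A, a * b = b * a := fun a ha b hb =>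
    congrArg Subtype.val (hcomm ⟨a, ha⟩ ⟨b, hb⟩)
  haveI := finite_gp
  -- commutators with the base
  have hcom : ∀ a ∈ A, ∀ k < 128, Acts a (sig k) → ∀ v, kap (v + appV (matK k) v) ∈ A := by
    intro a ha k hk hact v
    have h1 : kap v * a * (kap v)⁻¹ * a⁻¹ ∈ A := A.mul_mem (hnorm _ (hmem v) a ha) (A.inv_mem ha)
    rw [kap_add, ← conj_kap hk hact v]
    convert h1 using 1
    rw [kap_inv]
    group
  have hfix : ∀ a ∈ A, ∀ k < 128, Acts a (sig k) → ∀ w, kap w ∈ A → appV (matK k) w = w := by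
    intro a ha k hk hact w hw
    refine kap_injective ?_
    rw [← conj_kap hk hact w, hc a ha _ hw, mul_inv_cancel_right]
  -- the image is small
  have himage : ∀ a ∈ A, ∀ k < 128, Acts a (sig k) → sig k = sig 0 ∨ sig k = sig zIdx := by
    intro a ha k hk hact
    have hw := List.all_eq_true.1 witOk_all k (List.mem_range.2 hk)
    simp only [Bool.or_eq_true, beq_iff_eq] at hw
    rcases hw with (rfl | rfl) | hw
    · exact Or.inl rfl
    · exact Or.inr rfl
    exfalso
    simp only [witOk, Bool.and_eq_true, decide_eq_true_eq, beq_iff_eq, Bool.or_eq_true,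
      Bool.not_eq_true', List.any_eq_true, List.mem_range, bne_iff_ne] at hw
    generalize (witness.getD k (0, 0)).1 = t at hw
    generalize (witness.getD k (0, 0)).2 = c at hw
    obtain ⟨⟨⟨ht, hc'⟩, hconj⟩, hbad⟩ := hw
    obtain ⟨g, hg, hgt⟩ := honto t ht
    have ha' := hnorm g hg a ha
    obtain ⟨d, hd, hd'⟩ := hacts _ (hle ha')
    have h_tk : Acts (g * a) (sig t * sig k) := acts_mul (fun x hx => sig_ne hk hx) hgt hact
    have h_dt : Acts (g * a) (sig d * sig t) := by
      have := acts_mul (g := g * a * g⁻¹) (h := g) (fun x hx => sig_ne ht hx) hd' hgt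
      rwa [inv_mul_cancel_right] at this
    have hdc : sig d = sig c := by
      obtain ⟨u, hu, eu⟩ := SylTwoM23.valid.mul_mem (a := t) (b := k) ht hk
      obtain ⟨w, hw, ew⟩ := SylTwoM23.valid.mul_mem (a := d) (b := t) hd ht
      rw [show sig t * sig k = sig u from eu] at h_tk
      rw [show sig d * sig t = sig w from ew] at h_dt
      have e := acts_unique hu hw h_tk h_dt
      rw [show sig u = sig t * sig k from eu.symm, show sig w = sig d * sig t from ew.symm,
        (sig_eq_iff ht hk hc' ht).1 hconj] at e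
      exact (mul_right_cancel e).symm
    rw [hdc] at hd'
    rcases hbad with (hsq' | hcomm') | ⟨i, hi, hne⟩
    · have h2 : a * a = 1 := by rw [← pow_two]; exact hsq a ha
      have hk2 := acts_mul (g := a) (h := a) (fun x hx => sig_ne hk hx) hact hact
      rw [h2] at hk2
      obtain ⟨u, hu, eu⟩ := SylTwoM23.valid.mul_mem (a := k) (b := k) hk hk
      rw [show sig k * sig k = sig u from eu] at hk2
      have h0 : Acts (1 : Gp) (sig 0) := by rw [sig_zero]; exact acts_one
      have e := acts_unique hu (by norm_num) hk2 h0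
      have : sig k * sig k = sig 0 * sig 0 := by
        rw [show sig k * sig k = sig u from eu, e, sig_zero, one_mul]
      exact absurd ((sig_eq_iff hk hk (by norm_num) (by norm_num)).2 this) (by simpa using hsq')
    · have h1 := acts_mul (fun x hx => sig_ne hc' hx) hact hd'
      have h2 := acts_mul (fun x hx => sig_ne hk hx) hd' hact
      rw [hc a ha _ ha'] at h1
      obtain ⟨u, hu, eu⟩ := SylTwoM23.valid.mul_mem (a := k) (b := c) hk hc'
      obtain ⟨w, hw, ew⟩ := SylTwoM23.valid.mul_mem (a := c) (b := k) hc' hk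
      rw [show sig k * sig c = sig u from eu] at h1
      rw [show sig c * sig k = sig w from ew] at h2
      have e := acts_unique hu hw h1 h2
      have : sig k * sig c = sig c * sig k := by
        rw [show sig k * sig c = sig u from eu, e]; exact ew.symm
      exact absurd ((sig_eq_iff hk hc' hc' hk).2 this) (by simpa using hcomm')
    · have hm := hcom a ha k hk hact (bitsW (2 ^ i))
      have hf := hfix _ ha' c hc' hd' _ hm
      rw [← appN_spec, ← bitsW_xor, ← appN_spec] at hf
      refine hne (eq_of_bitsW (Nat.mod_lt _ (by norm_num)) (Nat.mod_lt _ (by norm_num)) ?_)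
      rw [bitsW_mod, bitsW_mod, hf]
  by_cases hAB : ∀ a ∈ A, Acts a (sig 0)
  · have hsub : A ≤ baseG := fun a ha => hker a (hle ha) (hAB a ha)
    refine ⟨card_baseG ▸ Subgroup.card_le_of_le hsub, fun h => ?_⟩
    exact Subgroup.eq_of_le_of_card_ge hsub (by rw [card_baseG, h])
  · push Not at hAB
    obtain ⟨a₀, ha₀, hn₀⟩ := hAB
    obtain ⟨k₀, hk₀, hact₀⟩ := hacts _ (hle ha₀)
    have hz₀ : sig k₀ = sig zIdx := (himage _ ha₀ k₀ hk₀ hact₀).resolve_left fun e => hn₀ (e ▸ hact₀)
    have hzlt : zIdx < 128 := by decide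
    rw [hz₀] at hact₀
    let F := (List.range 2048).filter fun n => appN (matK zIdx) n % 2048 == n
    have hsurj : ∀ a : A, ∃ x : Bool × Fin F.length,
        (a : Gp) = kap (bitsW (F.get x.2)) * (if x.1 then a₀ else 1) := by
      rintro ⟨a, ha⟩
      obtain ⟨k, hk, hact⟩ := hacts a (hle ha)
      have key : ∀ b ∈ A, Acts b (sig 0) → ∃ i : Fin F.length, b = kap (bitsW (F.get i)) := by
        intro b hb hb0
        obtain ⟨v, rfl⟩ := hker b (hle hb) hb0
        obtain ⟨n, hn, rfl⟩ := exists_bitsW v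
        have hf := hfix a₀ ha₀ zIdx hzlt hact₀ _ hb
        have hmemF : n ∈ F := by
          refine List.mem_filter.2 ⟨List.mem_range.2 hn, beq_iff_eq.2 ?_⟩
          exact eq_of_bitsW (Nat.mod_lt _ (by norm_num)) hn (by rw [bitsW_mod, appN_spec, hf])
        obtain ⟨i, hi⟩ := List.mem_iff_get.1 hmemF
        exact ⟨i, by rw [hi]⟩
      rcases himage a ha k hk hact with e | e
      · obtain ⟨i, hi⟩ := key a ha (e ▸ hact)
        exact ⟨(false, i), by simpa using hi⟩
      · have hb : Acts (a * a₀) (sig 0) := by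
          rw [e] at hact
          have h2 : a₀ * a₀ = 1 := by rw [← pow_two]; exact hsq a₀ ha₀
          have hz2 : sig zIdx * sig zIdx = sig 0 := by
            have := acts_mul (g := a₀) (h := a₀) (fun x hx => sig_ne hzlt hx) hact₀ hact₀
            rw [h2] at this
            obtain ⟨u, hu, eu⟩ := SylTwoM23.valid.mul_mem (a := zIdx) (b := zIdx) hzlt hzlt
            rw [show sig zIdx * sig zIdx = sig u from eu] at this ⊢
            exact acts_unique hu (by norm_num) this (by rw [sig_zero]; exact acts_one)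
          have := acts_mul (fun x hx => sig_ne hzlt hx) hact hact₀
          rwa [hz2] at this
        obtain ⟨i, hi⟩ := key _ (A.mul_mem ha ha₀) hb
        refine ⟨(true, i), ?_⟩
        have h2 : a₀ * a₀ = 1 := by rw [← pow_two]; exact hsq a₀ ha₀
        show a = _ * a₀
        rw [← hi, mul_assoc, h2, mul_one]
    choose f hf using hsurj
    have hcard : Nat.card A ≤ 256 := by
      refine (Nat.card_le_card_of_injective f fun a b e => Subtype.ext ?_).trans (le_of_eq ?_)
      · rw [hf a, hf b, e]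
      · rw [Nat.card_prod, Nat.card_eq_fintype_card, Fintype.card_bool, Nat.card_fin, fix_count]
    exact ⟨hcard.trans (by norm_num), fun h => by rw [h] at hcard; norm_num at hcard⟩

/-- The statement about any Sylow 2-subgroup. -/
theorem sylow_normal_elementary (T : Sylow 2 Gp) :
    (∀ A : Subgroup Gp, A ≤ T → (A.subgroupOf T).Normal → Cfsg.IsElementaryAbelian 2 A →
        Nat.card A ≤ 2 ^ 11) ∧
      ∃! A : Subgroup Gp, A ≤ T ∧ (A.subgroupOf T).Normal ∧ Cfsg.IsElementaryAbelian 2 A ∧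
        Nat.card A = 2 ^ 11 := by
  haveI := finite_gp
  haveI : Fact (Nat.Prime 2) := ⟨Nat.prime_two⟩
  obtain ⟨P, h1, h2, h3, h4⟩ := exists_sylow
  obtain ⟨g, hg⟩ := MulAction.exists_smul_eq Gp T P
  let c : Gp ≃* Gp := MulAut.conj g
  have hT : (T : Subgroup Gp).map c.toMonoidHom = P := by
    rw [← hg, Sylow.coe_subgroup_smul]; rfl
  have hmap : ∀ A : Subgroup Gp, A ≤ T → (A.subgroupOf T).Normal → Cfsg.IsElementaryAbelian 2 A →
      Nat.card (A.map c.toMonoidHom) ≤ 2 ^ 11 ∧
        (Nat.card (A.map c.toMonoidHom) = 2 ^ 11 → A.map c.toMonoidHom = baseG) := by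
    intro A hA hN hE
    refine normal_elementary h1 h2 h3 h4 (hT ▸ Subgroup.map_mono hA) ?_ ⟨⟨⟨?_⟩⟩, ?_⟩
    · intro y hy b hb
      rw [← hT] at hy
      obtain ⟨y, hy', rfl⟩ := hy
      obtain ⟨a, ha, rfl⟩ := hb
      refine ⟨y * a * y⁻¹, ?_, by simp⟩
      have := hN.conj_mem ⟨a, hA ha⟩ (Subgroup.mem_subgroupOf.2 ha) ⟨y, hy'⟩
      exact Subgroup.mem_subgroupOf.1 this
    · rintro ⟨_, a, ha, rfl⟩ ⟨_, b, hb, rfl⟩
      refine Subtype.ext ?_
      show c.toMonoidHom a * c.toMonoidHom b = c.toMonoidHom b * c.toMonoidHom a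
      rw [← map_mul, ← map_mul]
      exact congrArg _ (congrArg Subtype.val (hE.1.is_comm.comm ⟨a, ha⟩ ⟨b, hb⟩))
    · rintro _ ⟨a, ha, rfl⟩
      rw [← map_pow, hE.2 a ha, map_one]
  have hcard : ∀ A : Subgroup Gp, Nat.card (A.map c.toMonoidHom) = Nat.card A := fun A =>
    Subgroup.card_map_of_injective c.injective
  refine ⟨fun A h h' h'' => hcard A ▸ (hmap A h h' h'').1, baseG.map c.symm.toMonoidHom, ?_, ?_⟩
  · have hback : baseG.map c.symm.toMonoidHom ≤ T := by
      rintro _ ⟨b, ⟨v, rfl⟩, rfl⟩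
      have hb : kap v ∈ (T : Subgroup Gp).map c.toMonoidHom := hT ▸ h1 v
      obtain ⟨a, ha, e⟩ := hb
      rw [← e]
      show c.symm (c a) ∈ (T : Subgroup Gp)
      rw [c.symm_apply_apply]; exact ha
    refine ⟨hback, ⟨fun a ha y => ?_⟩, ⟨⟨⟨?_⟩⟩, ?_⟩, ?_⟩
    · rw [Subgroup.mem_subgroupOf] at ha ⊢
      obtain ⟨b, ⟨v, rfl⟩, hb⟩ := ha
      have hy : c (y : Gp) ∈ (P : Subgroup Gp) := hT ▸ Subgroup.mem_map_of_mem _ y.2
      obtain ⟨k, hk, hact⟩ := h2 _ hy
      refine ⟨c (y : Gp) * kap v * (c (y : Gp))⁻¹, ⟨_, conj_kap hk hact v⟩, ?_⟩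
      have hb' : c.symm (kap v) = (a : Gp) := hb
      show c.symm _ = ((y : Gp) * (a : Gp) * (y : Gp)⁻¹)
      rw [map_mul, map_mul, map_inv, c.symm_apply_apply, hb']
    · rintro ⟨_, _, ⟨v, rfl⟩, rfl⟩ ⟨_, _, ⟨w, rfl⟩, rfl⟩
      refine Subtype.ext ?_
      show c.symm.toMonoidHom _ * c.symm.toMonoidHom _ = c.symm.toMonoidHom _ * c.symm.toMonoidHom _
      rw [← map_mul, ← map_mul, (kap_comm v w).eq]
    · rintro _ ⟨_, ⟨v, rfl⟩, rfl⟩
      rw [← map_pow, pow_two, kap_sq, map_one]
    · rw [Subgroup.card_map_of_injective c.symm.injective, card_baseG]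
  · rintro A ⟨hA, hN, hE, hc⟩
    have e := (hmap A hA hN hE).2 ((hcard A).trans hc)
    rw [← e, Subgroup.map_map]
    conv_lhs => rw [← Subgroup.map_id A]
    exact congrArg (A.map ·) (MonoidHom.ext fun x => (c.symm_apply_apply x).symm)

end

end CfsgLib.Spor.Fi23Two
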